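import Cfsg.Agent.Lib.OffenderJ.Member
import Cfsg.Agent.Lib.Functor.NPC
import Cfsg.Agent.Lib.Fusion.ThompsonA

/-!
# For `p ≥ 5`, `N(J(S))` controls normal `p`-complements
-/

set_option autoImplicit false

namespace Cfsg.Agent.Lib.OffenderJ

open Subgroup
open scoped commutatorElement

universe u

variable {p : ℕ} [Fact p.Prime] {G : Type u} [Group G] [Finite G]

theorem commutator_eq_bot_of_double {X : Subgroup G} (hX : IsPGroup p X) (hXn : X.Normal)
    (h : ⁅⁅X, Cfsg.pResidual p G⁆, Cfsg.pResidual p G⁆ = ⊥) : ⁅X, Cfsg.pResidual p G⁆ = ⊥ := by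
  rw [commutator_eq_bot_iff_le_centralizer]
  intro x hx
  have hle : Cfsg.pResidual p G ≤ centralizer ({x} : Set G) := by
    refine Transfer.pResidual_le_iff.2 fun g hg => ?_
    set c := ⁅g, x⁆ with hc
    have hcX : c ∈ X := by
      rw [hc, commutatorElement_def]
      exact X.mul_mem (hXn.conj_mem x hx g) (X.inv_mem hx)
    have hcg : Commute g c := by
      have : c ∈ ⁅X, Cfsg.pResidual p G⁆ := by
        rw [hc, ← commutatorElement_inv x g]
        exact inv_mem (commutator_mem_commutator hx (Transfer.mem_pResidual_of_coprime hg))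
      exact (mem_centralizer_iff.1 ((commutator_eq_bot_iff_le_centralizer.1 h) this) g
        (Transfer.mem_pResidual_of_coprime hg))
    have hpow : ∀ n : ℕ, g ^ n * x * (g ^ n)⁻¹ = c ^ n * x := by
      intro n
      induction n with
      | zero => simp
      | succ n ih =>
        have e1 : g * x * g⁻¹ = c * x := by rw [hc, commutatorElement_def]; group
        calc g ^ (n + 1) * x * (g ^ (n + 1))⁻¹ = g * (g ^ n * x * (g ^ n)⁻¹) * g⁻¹ := by
              rw [pow_succ']; group
          _ = g * c ^ n * g⁻¹ * (g * x * g⁻¹) := by rw [ih]; group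
          _ = c ^ n * (c * x) := by rw [e1, (hcg.pow_right n).eq, mul_inv_cancel_right]
          _ = _ := by rw [pow_succ, mul_assoc]
    have h1 := hpow (orderOf g)
    rw [pow_orderOf_eq_one, one_mul, inv_one, mul_one] at h1
    have hc1 : c = 1 := by
      have hco : (orderOf (⟨c, hcX⟩ : X)).Coprime p := by
        refine hg.coprime_dvd_left (orderOf_dvd_of_pow_eq_one (Subtype.ext ?_))
        exact right_eq_mul.1 h1
      exact congrArg Subtype.val (Transfer.eq_one_of_isPGroup_coprime hX hco)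
    rw [mem_centralizer_singleton_iff]
    exact (commutatorElement_eq_one_iff_commute.1 (hc ▸ hc1 : ⁅g, x⁆ = 1)).eq
  exact mem_centralizer_iff.2 fun g hg => mem_centralizer_singleton_iff.1 (hle hg)

/-- In a minimal configuration the abelian subgroups of largest order lie in the core. -/
theorem maxAbelian_le_pCore (hp : 5 ≤ p) (hG : ¬ Cfsg.HasNormalPComplement p G)
    (m : ThompsonNPC.Minimal p G) {A : Subgroup G} (hA : A ≤ centralizer (A : Set G))
    (hAP : A ≤ (m.P : Subgroup G))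
    (hmax : ∀ M : Subgroup G, M ≤ (m.P : Subgroup G) → M ≤ centralizer (M : Set G) →
      Nat.card M ≤ Nat.card A) : A ≤ Cfsg.pCore p G := by
  classical
  have hpp : p.Prime := Fact.out
  obtain ⟨P, K, hcoatom, hHK, hKn, hsup, hinf, hcomm, hcop, hCH, hHP, hPtop⟩ := m
  haveI := hKn
  set Q := Cfsg.pCore p G with hQ
  have hQp : IsPGroup p Q := PSolvable.pCore_isPGroup
  haveI hQn : Q.Normal := by
    haveI := PSolvable.pCore_characteristic (p := p) (G := G)
    rw [hQ]; infer_instance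
  have hQP : Q ≤ (P : Subgroup G) := PSolvable.pCore_le_sylow P
  set O := Cfsg.pResidual p G with hO
  have hKmem : ∀ x : G, ∃ n, x ^ p ^ n ∈ K := by
    intro x
    obtain ⟨k, hk, y, hy, rfl⟩ := mem_sup_of_normal_left.1
      (show x ∈ K ⊔ (P : Subgroup G) by rw [hsup]; exact mem_top x)
    obtain ⟨n, hn⟩ := P.2 ⟨y, hy⟩
    refine ⟨n, ?_⟩
    rw [← QuotientGroup.eq_one_iff, QuotientGroup.mk_pow, QuotientGroup.mk_mul,
      (QuotientGroup.eq_one_iff k).2 hk, one_mul, ← QuotientGroup.mk_pow,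
      show y ^ p ^ n = 1 from congrArg Subtype.val hn, QuotientGroup.mk_one]
  have hOK : O ≤ K := by
    refine Transfer.pResidual_le_of_isPGroup_quotient K fun x => ?_
    obtain ⟨g, rfl⟩ := QuotientGroup.mk_surjective x
    obtain ⟨n, hn⟩ := hKmem g
    exact ⟨n, by rw [← QuotientGroup.mk_pow, QuotientGroup.eq_one_iff]; exact hn⟩
  have hQO : ⁅Q, O⁆ ≠ ⊥ := by
    intro h
    rw [Subgroup.commutator_comm, commutator_eq_bot_iff_le_centralizer] at h
    refine hG (Transfer.hasNormalPComplement_iff.2 ?_)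
    have hbot : O = ⊥ := by
      rw [_root_.eq_bot_iff]
      refine Transfer.pResidual_le_iff.2 fun g hg => mem_bot.2 ?_
      have hgQ : g ∈ Q := hCH (h (Transfer.mem_pResidual_of_coprime hg))
      exact congrArg Subtype.val (Transfer.eq_one_of_isPGroup_coprime hQp (x := ⟨g, hgQ⟩)
        (by rwa [← Subgroup.orderOf_coe]))
    show ¬ p ∣ Nat.card O
    rw [hbot, card_bot, Nat.dvd_one]
    exact hpp.ne_one
  obtain ⟨B, ⟨hBn, hBQ, hBO⟩, hBmin⟩ := Set.exists_min_image
    {B : Subgroup G | B.Normal ∧ B ≤ Q ∧ ⁅B, O⁆ ≠ ⊥} (fun B => Nat.card B) (Set.toFinite _)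
    ⟨Q, hQn, le_rfl, hQO⟩
  haveI := hBn
  have hsmall : ∀ Y : Subgroup G, Y.Normal → Y ≤ B → Y ≠ B → ⁅Y, O⁆ = ⊥ := by
    intro Y hY hYB hne
    by_contra h
    exact hne (eq_of_le_of_card_ge hYB (hBmin Y ⟨hY, hYB.trans hBQ, h⟩))
  set E := B ⊓ centralizer (O : Set G) with hE
  haveI hEn : E.Normal := by rw [hE]; infer_instance
  have hYE : ∀ Y : Subgroup G, Y.Normal → Y ≤ B → Y ≠ B → Y ≤ E := fun Y hY hYB hne =>
    le_inf hYB (commutator_eq_bot_iff_le_centralizer.1 (hsmall Y hY hYB hne))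
  have hEO : ⁅E, O⁆ = ⊥ := commutator_eq_bot_iff_le_centralizer.2 inf_le_right
  have hEB : E ≠ B := fun h => hBO (h ▸ hEO)
  have hBOeq : ⁅B, O⁆ = B := by
    by_contra hne
    exact hBO (commutator_eq_bot_of_double (hQp.to_le hBQ) hBn
      (hsmall _ inferInstance (commutator_le_left B O) hne))
  have hcommQ : ∀ b ∈ B, ∀ q ∈ Q, ⁅b, q⁆ ∈ E := by
    refine Subgroup.commutator_le.1 (hYE _ inferInstance (commutator_le_left B Q) fun h => ?_)
    refine hEB (le_antisymm inf_le_left ?_)
    rw [Quadratic.eq_bot_of_le_commutator hQp hBQ h.ge]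
    exact bot_le
  have hBE : ⁅B, E⁆ = ⊥ := by
    have h1 : ⁅⁅B, E⁆, O⁆ = ⊥ :=
      le_bot_iff.1 ((commutator_mono (commutator_le_right B E) le_rfl).trans hEO.le)
    have h2 : ⁅⁅E, O⁆, B⁆ = ⊥ := by rw [hEO, commutator_bot_left]
    have h3 := commutator_commutator_eq_bot_of_rotate h1 h2
    rwa [Subgroup.commutator_comm O B, hBOeq] at h3
  have hcentral : ∀ b ∈ B, ∀ e ∈ E, Commute b e := fun b hb e he =>
    commutatorElement_eq_one_iff_commute.1 (mem_bot.1 (hBE ▸ commutator_mem_commutator hb he))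
  -- the section as an additive group
  set E' := E.subgroupOf B with hE'
  let instQ : CommGroup (↥B ⧸ E') :=
    { (inferInstance : Group (↥B ⧸ E')) with
      mul_comm := fun x y => by
        obtain ⟨x, rfl⟩ := QuotientGroup.mk_surjective x
        obtain ⟨y, rfl⟩ := QuotientGroup.mk_surjective y
        rw [← commutatorElement_eq_one_iff_mul_comm]
        show ⁅(QuotientGroup.mk' E') x, (QuotientGroup.mk' E') y⁆ = 1
        rw [← map_commutatorElement]
        exact (QuotientGroup.eq_one_iff _).2 (mem_subgroupOf.2 (hcommQ _ x.2 _ (hBQ y.2))) }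
  letI := instQ
  let act : G →* MulAut ↥B := MulAut.conjNormal
  have hact : ∀ g : G, E' ≤ E'.comap (act g).toMonoidHom := fun g x hx => by
    rw [mem_comap, mem_subgroupOf]
    show ((MulAut.conjNormal g x : B) : G) ∈ E
    rw [MulAut.conjNormal_apply]
    exact hEn.conj_mem _ hx g
  let qmap : G → (↥B ⧸ E' →* ↥B ⧸ E') := fun g => QuotientGroup.map E' E' (act g).toMonoidHom (hact g)
  let ρ₀ : G →* AddMonoid.End (Additive (↥B ⧸ E')) :=
    { toFun := fun g => (MonoidHom.toAdditive (qmap g) : Additive (↥B ⧸ E') →+ Additive (↥B ⧸ E'))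
      map_one' := AddMonoidHom.ext fun v => by
        obtain ⟨x, hx⟩ := QuotientGroup.mk_surjective (Additive.toMul v)
        rw [← ofMul_toMul v, ← hx]
        exact congrArg (fun y : B => Additive.ofMul (y : ↥B ⧸ E')) (Subtype.ext (by
          show ((MulAut.conjNormal (1 : G) x : B) : G) = x
          rw [MulAut.conjNormal_apply]; group))
      map_mul' := fun g h => AddMonoidHom.ext fun v => by
        obtain ⟨x, hx⟩ := QuotientGroup.mk_surjective (Additive.toMul v)
        rw [← ofMul_toMul v, ← hx]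
        exact congrArg (fun y : B => Additive.ofMul (y : ↥B ⧸ E')) (Subtype.ext (by
          show ((MulAut.conjNormal (g * h) x : B) : G) =
            ((MulAut.conjNormal g (MulAut.conjNormal h x) : B) : G)
          simp only [MulAut.conjNormal_apply]; group)) }
  let π : G → Additive (↥B ⧸ E') := fun g =>
    if h : g ∈ B then Additive.ofMul ((⟨g, h⟩ : B) : ↥B ⧸ E') else 0
  have hπ : ∀ g (h : g ∈ B), π g = Additive.ofMul ((⟨g, h⟩ : B) : ↥B ⧸ E') :=
    fun g h => dif_pos h
  have hρ : ∀ g, ∀ b ∈ B, (ρ₀ g) (π b) = π (g * b * g⁻¹) := by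
    intro g b hb
    rw [hπ b hb, hπ _ (hBn.conj_mem b hb g)]
    exact congrArg (fun y : B => Additive.ofMul (y : ↥B ⧸ E')) (Subtype.ext (by
      show ((MulAut.conjNormal g (⟨b, hb⟩ : B) : B) : G) = g * b * g⁻¹
      rw [MulAut.conjNormal_apply]))
  have hπ0 : ∀ x ∈ B, π x = 0 ↔ x ∈ E := by
    intro x hx
    rw [hπ x hx, ofMul_eq_zero, QuotientGroup.eq_one_iff, hE', mem_subgroupOf]
  have hsurj : ∀ v, ∃ x ∈ B, π x = v := by
    intro v
    obtain ⟨x, hx⟩ := QuotientGroup.mk_surjective (Additive.toMul v)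
    exact ⟨x, x.2, by rw [hπ _ x.2, Subtype.coe_eta, hx, ofMul_toMul]⟩
  have hext : ∀ f f' : AddMonoid.End (Additive (↥B ⧸ E')),
      (∀ x ∈ B, f (π x) = f' (π x)) → f = f' := fun f f' h => AddMonoidHom.ext fun v => by
    obtain ⟨x, hx, rfl⟩ := hsurj v
    exact h x hx
  -- exponent `p`
  have hexp : ∀ y : ↥B ⧸ E', y ^ p = 1 := by
    set R := (powMonoidHom p : ↥B ⧸ E' →* ↥B ⧸ E').range with hR
    set Y := (R.comap (QuotientGroup.mk' E')).map B.subtype with hY
    have hYn : Y.Normal := by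
      refine ⟨?_⟩
      rintro _ ⟨x, hx, rfl⟩ g
      obtain ⟨w, hw⟩ := hx
      refine ⟨act g x, ⟨qmap g w, ?_⟩, ?_⟩
      · show qmap g w ^ p = qmap g (x : ↥B ⧸ E')
        rw [← map_pow]
        exact congrArg (qmap g) hw
      · show ((MulAut.conjNormal g x : B) : G) = g * x * g⁻¹
        rw [MulAut.conjNormal_apply]
    have hYne : Y ≠ B := by
      intro h
      have htop : ∀ y : ↥B ⧸ E', y ∈ R := fun y => by
        obtain ⟨x, rfl⟩ := QuotientGroup.mk_surjective y
        obtain ⟨x', hx', he⟩ := h.ge x.2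
        rwa [← Subtype.ext he]
      have hinj : Function.Injective (powMonoidHom p : ↥B ⧸ E' →* ↥B ⧸ E') :=
        Finite.injective_iff_surjective.2 fun y => htop y
      obtain ⟨x, hx, hxE⟩ := SetLike.not_le_iff_exists.1 (fun hle => hEB (le_antisymm inf_le_left hle))
      obtain ⟨k, hk⟩ := hQp ⟨x, hBQ hx⟩
      have h1 : ((⟨x, hx⟩ : B) : ↥B ⧸ E') ^ p ^ k = 1 := by
        rw [← QuotientGroup.mk_pow, show (⟨x, hx⟩ : B) ^ p ^ k = 1 from
          Subtype.ext (congrArg Subtype.val hk :), QuotientGroup.mk_one]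
      have h2 : ∀ (j : ℕ) (y : ↥B ⧸ E'), y ^ p ^ j = 1 → y = 1 := by
        intro j
        induction j with
        | zero => intro y hy; simpa using hy
        | succ j ih =>
          intro y hy
          refine hinj ?_
          rw [map_one]
          refine ih _ ?_
          rw [powMonoidHom_apply, ← pow_mul, ← pow_succ']
          exact hy
      exact hxE (mem_subgroupOf.1 ((QuotientGroup.eq_one_iff _).1 (h2 k _ h1)))
    intro y
    obtain ⟨x, hx⟩ := QuotientGroup.mk_surjective (y ^ p)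
    rw [← hx, QuotientGroup.eq_one_iff, hE', mem_subgroupOf]
    exact hYE Y hYn (map_subtype_le _) hYne ⟨x, ⟨y, hx.symm⟩, rfl⟩
  set ρ := ρ₀.toHomUnits with hρdef
  have hρu : ∀ g, (ρ g : AddMonoid.End (Additive (↥B ⧸ E'))) = ρ₀ g := fun g => rfl
  have hρQ : ∀ q ∈ Q, ρ q = 1 := by
    intro q hq
    refine Units.ext (hext _ _ fun x hx => ?_)
    rw [hρu, hρ q x hx, Units.val_one, AddMonoid.End.coe_one, id_eq, hπ _ hx,
      hπ _ (hBn.conj_mem x hx q)]
    refine congrArg Additive.ofMul (QuotientGroup.eq.2 (mem_subgroupOf.2 ?_))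
    show (q * x * q⁻¹)⁻¹ * x ∈ E
    have : (q * x * q⁻¹)⁻¹ * x = (x⁻¹ * ⁅x, q⁆⁻¹ * x)⁻¹ := by
      simp only [commutatorElement_def]; group
    rw [this]
    have h' := hEn.conj_mem _ (E.inv_mem (hcommQ x hx q hq)) x⁻¹
    rw [inv_inv] at h'
    exact E.inv_mem h'
  -- faithfulness
  have hkerK : ρ.ker ⊓ K ≤ Q := by
    set X := ρ.ker ⊓ K with hX
    have hQX : Q ≤ X := le_inf (fun q hq => hρQ q hq) hHK
    rcases eq_or_lt_of_le (le_sup_right : (P : Subgroup G) ≤ X ⊔ P) with h | h
    · exact (le_inf inf_le_right (le_sup_left.trans h.ge)).trans hinf.le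
    exfalso
    have htop := hcoatom.2 _ h
    have hKX : K ≤ X := by
      intro k hk
      obtain ⟨x, hx, y, hy, rfl⟩ := mem_sup_of_normal_left.1
        (show k ∈ X ⊔ (P : Subgroup G) by rw [htop]; exact mem_top k)
      exact mul_mem hx (hQX (hinf.le ⟨(Subgroup.mul_mem_cancel_left K hx.2).1 hk, hy⟩))
    have hBOE : ⁅B, O⁆ ≤ E := by
      rw [Subgroup.commutator_le]
      intro b hb o ho
      have ho' : ρ o = 1 := (hKX (hOK ho)).1
      have h1 : π (o * b * o⁻¹) = π b := by
        rw [← hρ o b hb, ← hρu, ho']; rfl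
      rw [hπ _ hb, hπ _ (hBn.conj_mem b hb o)] at h1
      have h2 : (o * b * o⁻¹)⁻¹ * b ∈ E :=
        mem_subgroupOf.1 (QuotientGroup.eq.1 (Additive.ofMul.injective h1))
      have : ⁅b, o⁆ = b * ((o * b * o⁻¹)⁻¹ * b) * b⁻¹ := by
        simp only [commutatorElement_def]; group
      rw [this]
      exact hEn.conj_mem _ h2 b
    exact hEB (le_antisymm inf_le_left (hBOeq ▸ hBOE))
  have hker : ρ.ker ≤ Q := by
    refine PSolvable.le_pCore (hN := inferInstance) fun g => ?_
    obtain ⟨n, hn⟩ := hKmem (g : G)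
    obtain ⟨j, hj⟩ := hQp ⟨_, hkerK ⟨pow_mem g.2 _, hn⟩⟩
    refine ⟨n + j, Subtype.ext ?_⟩
    rw [SubgroupClass.coe_pow, pow_add, pow_mul]
    exact congrArg Subtype.val hj
  have hρK : ∀ k ∈ K, ∀ k' ∈ K, ρ k * ρ k' = ρ k' * ρ k := by
    intro k hk k' hk'
    rw [← commutatorElement_eq_one_iff_mul_comm, ← map_commutatorElement]
    exact hρQ _ (by simpa [commutatorElement_def] using hcomm k hk k' hk')
  have hfaith : ∀ g ∈ (P : Subgroup G), (∀ k ∈ K, ρ g * ρ k = ρ k * ρ g) → g ∈ Q := by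
    set N0 := (centralizer (K.map ρ : Set _)).comap ρ with hN0
    set D := N0 ⊓ (P : Subgroup G) with hD
    have hKN0 : K ≤ N0 := fun k hk => mem_comap.2 (mem_centralizer_iff.2 (by
      rintro _ ⟨k', hk', rfl⟩
      exact hρK k' hk' k hk))
    have hQD : Q ≤ D := le_inf (hHK.trans hKN0) hQP
    have hN0n : N0.Normal := by
      refine ⟨fun n hn g => mem_comap.2 (mem_centralizer_iff.2 ?_)⟩
      rintro _ ⟨k, hk, rfl⟩
      have h' : ρ (g⁻¹ * k * g) * ρ n = ρ n * ρ (g⁻¹ * k * g) :=
        mem_centralizer_iff.1 (mem_comap.1 hn) _ (mem_map_of_mem ρ (by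
          simpa using hKn.conj_mem k hk g⁻¹))
      simp only [map_mul, map_inv] at h' ⊢
      calc ρ k * (ρ g * ρ n * (ρ g)⁻¹) = ρ g * ((ρ g)⁻¹ * ρ k * ρ g * ρ n) * (ρ g)⁻¹ := by group
        _ = ρ g * (ρ n * ((ρ g)⁻¹ * ρ k * ρ g)) * (ρ g)⁻¹ := by rw [h']
        _ = _ := by group
    have hDn : D.Normal := by
      refine normalizer_eq_top_iff.1 (top_le_iff.1 (hsup.ge.trans (sup_le (fun k hk => ?_) ?_)))
      · refine ZJ.mem_normalizer_of_conj_le fun d hd => ?_
        have h1 : k * d * k⁻¹ * d⁻¹ ∈ Q := hker (MonoidHom.mem_ker.2 (by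
          simp only [map_mul, map_inv]
          rw [mem_centralizer_iff.1 (mem_comap.1 hd.1) _ (mem_map_of_mem ρ hk)]
          group))
        have := mul_mem (hQD h1) hd
        rwa [inv_mul_cancel_right] at this
      · haveI := hN0n
        exact (le_inf ((normalizer_eq_top N0).symm ▸ le_top) le_normalizer).trans
          inf_normalizer_le_normalizer_inf
    intro g hg h
    refine PSolvable.le_pCore (hN := hDn) (P.2.to_le inf_le_right) ⟨mem_comap.2
      (mem_centralizer_iff.2 ?_), hg⟩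
    rintro _ ⟨k, hk, rfl⟩
    exact (h k hk).symm
  let C : Config p G (Additive (↥B ⧸ E')) :=
    { P := P, Q := Q, K := K, B := B, E := E
      normalK := hKn, normalB := hBn, normalE := hEn
      isPGroupP := P.2
      Q_le := hQP
      B_le := hBQ
      E_le := inf_le_left
      commQ := hcommQ
      centralE := hcentral
      π := π
      π_mul := fun x hx y hy => by
        rw [hπ x hx, hπ y hy, hπ _ (B.mul_mem hx hy), ← ofMul_mul, ← QuotientGroup.mk_mul]
        rfl
      π_eq_zero := hπ0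
      π_surj := hsurj
      ρ := ρ
      ρ_conj := hρ
      ρQ := hρQ
      p_smul := fun v => Additive.toMul.injective (by rw [toMul_nsmul, hexp, toMul_zero])
      ρK_comm := hρK
      K_pow := fun k hk => ⟨Q.relIndex K, ((hpp.coprime_iff_not_dvd).2 hcop).symm, by
        have h := (Q.subgroupOf K).pow_index_mem ⟨k, hk⟩
        rw [mem_subgroupOf] at h
        simpa [relIndex] using h⟩
      faithful := hfaith }
  exact Config.le_of_maxAbelian hp C hA hAP hmax

/-! ### The abelian Thompson subgroup as a functor -/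

/-- `J(Q)` as a functor. -/
def jFun (Q : Type u) [Group Q] : Subgroup Q := Cfsg.thompsonSubgroupA Q

theorem jFun_isCharPFunctor (p : ℕ) : Cfsg.IsCharPFunctor.{u} p jFun := by
  refine ⟨fun Q _ _ _ hne h => ?_, fun Q R _ _ _ _ φ => Fusion.map_thompsonSubgroupA φ⟩
  obtain ⟨A, hA⟩ := CD.exists_mem_maxAbelianSubgroups (G := Q)
  have hbot : A = ⊥ := le_bot_iff.1 (h ▸ le_sSup hA)
  obtain ⟨x, hx⟩ := exists_ne (1 : Q)
  have h1 := hA.2 (zpowers x) inferInstance
  rw [hbot, card_bot] at h1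
  exact hx (zpowers_eq_bot.1 (eq_bot_of_card_le _ h1))

omit [Fact p.Prime] [Finite G] in
theorem mem_maxAbelian_iff (S A : Subgroup G) :
    A.subgroupOf S ∈ Cfsg.maxAbelianSubgroups S ∧ A ≤ S ↔
      A ≤ S ∧ A ≤ centralizer (A : Set G) ∧
        ∀ M : Subgroup G, M ≤ S → M ≤ centralizer (M : Set G) → Nat.card M ≤ Nat.card A := by
  constructor
  · rintro ⟨⟨hA, hmax⟩, hAS⟩
    refine ⟨hAS, fun x hx => mem_centralizer_iff.2 fun y hy => congrArg (fun z => ((z : S) : G))
      (hA.is_comm.comm ⟨⟨y, hAS hy⟩, hy⟩ ⟨⟨x, hAS hx⟩, hx⟩ |> congrArg Subtype.val), ?_⟩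
    intro M hM hMc
    have := hmax (M.subgroupOf S) ⟨⟨fun x y => Subtype.ext (Subtype.ext
      (mem_centralizer_iff.1 (hMc y.2) _ x.2))⟩⟩
    rwa [Nat.card_congr (subgroupOfEquivOfLe hM).toEquiv,
      Nat.card_congr (subgroupOfEquivOfLe hAS).toEquiv] at this
  · rintro ⟨hAS, hA, hmax⟩
    refine ⟨⟨⟨⟨fun x y => Subtype.ext (Subtype.ext (mem_centralizer_iff.1 (hA y.2) _ x.2))⟩⟩,
      fun M hM => ?_⟩, hAS⟩
    rw [Nat.card_congr (subgroupOfEquivOfLe hAS).toEquiv,
      ← card_map_of_injective (K := M) (subtype_injective S)]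
    refine hmax _ (map_subtype_le M) ?_
    rintro _ ⟨x, hx, rfl⟩
    refine mem_centralizer_iff.2 ?_
    rintro _ ⟨y, hy, rfl⟩
    exact congrArg (fun z => ((z : S) : G)) (congrArg Subtype.val
      (hM.is_comm.comm ⟨y, hy⟩ ⟨x, hx⟩))

/-- **For `p ≥ 5`, a normal complement in `N(J(S))` gives one in `G`.** -/
theorem hasNormalPComplement_of_normalizer_J (hp : 5 ≤ p) (S : Sylow p G)
    (hN : Cfsg.HasNormalPComplement p
      (normalizer (Cfsg.thompsonSubgroupAOf (S : Subgroup G) : Set G))) :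
    Cfsg.HasNormalPComplement p G := by
  have hW := jFun_isCharPFunctor.{u} p
  refine ThompsonNPC.hasNormalPComplement_of_good (Functor.functorFamily hW)
    (fun X _ _ hgood hX m => ?_) G (ThompsonNPC.good_of_one _ S fun _ => ?_)
  · refine Functor.not_normal_of_good hW hgood hX m.P ?_
    have hle : Cfsg.thompsonSubgroupAOf (m.P : Subgroup X) ≤ Cfsg.pCore p X := by
      rw [Cfsg.thompsonSubgroupAOf, map_le_iff_le_comap]
      refine sSup_le fun A hA => ?_
      rw [← map_le_iff_le_comap]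
      obtain ⟨h1, h2, h3⟩ := (mem_maxAbelian_iff (m.P : Subgroup X)
        (A.map (m.P : Subgroup X).subtype)).1 ⟨by
          rwa [subgroupOf, comap_map_eq_self_of_injective (subtype_injective _)], map_subtype_le A⟩
      exact maxAbelian_le_pCore hp hX m h2 h1 h3
    -- `J` of the Sylow subgroup equals `J` of the core
    set Q := Cfsg.pCore p X
    have hQP : Q ≤ (m.P : Subgroup X) := PSolvable.pCore_le_sylow m.P
    have hQn : Q.Normal := inferInstance
    have heq : Cfsg.thompsonSubgroupAOf (m.P : Subgroup X) = Cfsg.thompsonSubgroupAOf Q := by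
      apply le_antisymm
      · rw [Cfsg.thompsonSubgroupAOf, map_le_iff_le_comap]
        refine sSup_le fun A hA => ?_
        rw [← map_le_iff_le_comap]
        set B := A.map (m.P : Subgroup X).subtype
        have hB : B ≤ Cfsg.thompsonSubgroupAOf (m.P : Subgroup X) := map_mono (le_sSup hA)
        obtain ⟨-, h2, h3⟩ := (mem_maxAbelian_iff (m.P : Subgroup X) B).1 ⟨by
          rwa [subgroupOf, comap_map_eq_self_of_injective (subtype_injective _)], map_subtype_le A⟩
        have hBQ := hB.trans hle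
        rw [← map_subgroupOf_eq_of_le hBQ]
        exact map_mono (le_sSup ((mem_maxAbelian_iff Q B).2
          ⟨hBQ, h2, fun M hM hMc => h3 M (hM.trans hQP) hMc⟩).1)
      · rw [Cfsg.thompsonSubgroupAOf, map_le_iff_le_comap]
        refine sSup_le fun A hA => ?_
        rw [← map_le_iff_le_comap]
        set B := A.map Q.subtype
        obtain ⟨hBQ, h2, h3⟩ := (mem_maxAbelian_iff Q B).1 ⟨by
          rwa [subgroupOf, comap_map_eq_self_of_injective (subtype_injective _)], map_subtype_le A⟩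
        rw [← map_subgroupOf_eq_of_le (hBQ.trans hQP)]
        refine map_mono (le_sSup ((mem_maxAbelian_iff (m.P : Subgroup X) B).2
          ⟨hBQ.trans hQP, h2, fun M hM hMc => ?_⟩).1)
        obtain ⟨A₀, hA₀⟩ := CD.exists_mem_maxAbelianSubgroups (G := (m.P : Subgroup X))
        obtain ⟨g1, g2, g3⟩ := (mem_maxAbelian_iff (m.P : Subgroup X)
          (A₀.map (m.P : Subgroup X).subtype)).1 ⟨by
            rwa [subgroupOf, comap_map_eq_self_of_injective (subtype_injective _)], map_subtype_le A₀⟩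
        exact (g3 M hM hMc).trans (h3 _ ((map_mono (le_sSup hA₀)).trans hle) g2)
    show (Cfsg.thompsonSubgroupAOf (m.P : Subgroup X)).Normal
    rw [heq, ← normalizer_eq_top_iff, eq_top_iff]
    refine le_trans ?_ (Functor.normalizer_le_normalizer_functor
      (Functor.inducedFunctor_isConjugacyFunctor hW) PSolvable.pCore_isPGroup)
    rw [normalizer_eq_top_iff.2 hQn]
  · show Cfsg.HasNormalPComplement p (Functor.functorLoc p jFun (S : Subgroup G))
    rw [Functor.functorLoc_eq _ S.2]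
    exact hN

end Cfsg.Agent.Lib.OffenderJ
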