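import Mathlib

/-!
# Norms of automorphisms of an elementary abelian group normalising an abelian `p'`-group

If the norm of `g` (of order dividing `p ^ (f + 1)` on the group in question) vanishes on an
invariant subgroup, then `g ^ (p ^ f)` centralises the action of the abelian `p'`-group there.
-/

set_option autoImplicit false

namespace Cfsg.Agent.Lib.OffenderJ

open Finset

variable {W : Type*} [AddCommGroup W] {p : ℕ} [Fact p.Prime]

theorem End.sum_apply {ι : Type*} (s : Finset ι) (f : ι → AddMonoid.End W) (w : W) :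
    (∑ i ∈ s, f i) w = ∑ i ∈ s, f i w :=
  AddMonoidHom.finsetSum_apply f s w

theorem End.add_apply (f f' : AddMonoid.End W) (w : W) : (f + f') w = f w + f' w := rfl

theorem End.natCast_prime_eq_zero (hW : ∀ w : W, p • w = 0) : (p : AddMonoid.End W) = 0 := by
  ext w
  simpa using hW w

theorem End.sum_pow_eq_and_pow_sub_one (hW : ∀ w : W, p • w = 0) (g : AddMonoid.End W) (e : ℕ) :
    (∑ i ∈ range (p ^ e), g ^ i) = (g - 1) ^ (p ^ e - 1) ∧
      (g - 1) ^ (p ^ e) = g ^ (p ^ e) - 1 := by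
  have hp : p.Prime := Fact.out
  rcases subsingleton_or_nontrivial (AddMonoid.End W) with hs | hn
  · exact ⟨Subsingleton.elim _ _, Subsingleton.elim _ _⟩
  haveI : CharP (AddMonoid.End W) p :=
    (CharP.charP_iff_prime_eq_zero hp).2 (End.natCast_prime_eq_zero hW)
  letI : Algebra (ZMod p) (AddMonoid.End W) := ZMod.algebra _ p
  have h1 : (∑ i ∈ range (p ^ e), (Polynomial.X : Polynomial (ZMod p)) ^ i) =
      (Polynomial.X - 1) ^ (p ^ e - 1) := by
    refine mul_right_cancel₀ (Polynomial.X_sub_C_ne_zero (1 : ZMod p)) ?_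
    rw [map_one, geom_sum_mul, ← pow_succ, Nat.sub_add_cancel (Nat.one_le_pow _ _ hp.pos),
      sub_pow_char_pow, one_pow]
  have h2 : ((Polynomial.X : Polynomial (ZMod p)) - 1) ^ (p ^ e) = Polynomial.X ^ (p ^ e) - 1 := by
    rw [sub_pow_char_pow, one_pow]
  constructor
  · simpa [map_sum] using congrArg (Polynomial.aeval g) h1
  · simpa using congrArg (Polynomial.aeval g) h2

/-- A coprime automorphism commuting with a `p`-group and trivial on its fixed points is trivial. -/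
theorem End.eq_one_of_trivial_on_fixed [Finite W] (hW : ∀ w : W, p • w = 0) {H : Type*} [Group H]
    [Finite H] (hH : IsPGroup p H) (ρ : H →* (AddMonoid.End W)ˣ) {l : (AddMonoid.End W)ˣ} {n : ℕ}
    (hn : n.Coprime p) (hl : l ^ n = 1) (hcomm : ∀ h, l * ρ h = ρ h * l)
    (hfix : ∀ w : W, (∀ h, (ρ h : AddMonoid.End W) w = w) → (l : AddMonoid.End W) w = w) :
    l = 1 := by
  set d : AddMonoid.End W := (l : AddMonoid.End W) - 1 with hd
  have hd' : ∀ w, (l : AddMonoid.End W) w = w + d w := fun w => by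
    show _ = w + ((l : AddMonoid.End W) w - w)
    rw [add_sub_cancel]
  -- `d` is injective on its image
  have hinj : ∀ v, d (d v) = 0 → d v = 0 := by
    intro v hv
    have hlu : (l : AddMonoid.End W) (d v) = d v := by rw [hd', hv, add_zero]
    have hk : ∀ k : ℕ, ((l : AddMonoid.End W) ^ k) v = v + k • d v := by
      intro k
      induction k with
      | zero => simp
      | succ k ih =>
        rw [pow_succ', AddMonoid.End.coe_mul, Function.comp_apply, ih, map_add, map_nsmul, hlu,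
          hd' v, succ_nsmul']
        abel
    have h0 := hk n
    rw [← Units.val_pow_eq_pow_val, hl, Units.val_one, AddMonoid.End.coe_one, id_eq,
      left_eq_add] at h0
    have h1 : addOrderOf (d v) ∣ Nat.gcd n p :=
      Nat.dvd_gcd (addOrderOf_dvd_of_nsmul_eq_zero h0) (addOrderOf_dvd_of_nsmul_eq_zero (hW _))
    rw [hn, Nat.dvd_one, AddMonoid.addOrderOf_eq_one_iff] at h1
    exact h1
  have hdh : ∀ h w, (ρ h : AddMonoid.End W) (d w) = d ((ρ h : AddMonoid.End W) w) := by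
    intro h w
    have := DFunLike.congr_fun (congrArg Units.val (hcomm h)) w
    simp only [Units.val_mul, AddMonoid.End.coe_mul, Function.comp_apply] at this
    show (ρ h : AddMonoid.End W) ((l : AddMonoid.End W) w - w) =
      (l : AddMonoid.End W) ((ρ h : AddMonoid.End W) w) - (ρ h : AddMonoid.End W) w
    rw [map_sub, this]
  -- the image of `d` as a set with an action of `H`
  by_contra hne
  let U := AddMonoidHom.range (d : W →+ W)
  letI : MulAction H U :=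
    { smul := fun h u => ⟨(ρ h : AddMonoid.End W) u.1, by
        obtain ⟨w, hw⟩ := u.2
        exact ⟨(ρ h : AddMonoid.End W) w, by rw [← hw]; exact (hdh h w).symm⟩⟩
      one_smul := fun u => Subtype.ext (by
        show (ρ 1 : AddMonoid.End W) u.1 = u.1
        rw [map_one]; rfl)
      mul_smul := fun h h' u => Subtype.ext (by
        show (ρ (h * h') : AddMonoid.End W) u.1 =
          (ρ h : AddMonoid.End W) ((ρ h' : AddMonoid.End W) u.1)
        rw [map_mul]; rfl) }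
  obtain ⟨w₀, hw₀⟩ : ∃ w, d w ≠ 0 := by
    by_contra hall
    push Not at hall
    refine hne (Units.ext (AddMonoidHom.ext fun w => ?_))
    show (l : AddMonoid.End W) w = _
    rw [hd', hall w, add_zero]
    rfl
  have hU : p ∣ Nat.card U := by
    have hne0 : (⟨d w₀, w₀, rfl⟩ : U) ≠ 0 := fun h => hw₀ (congrArg Subtype.val h)
    rw [← addOrderOf_eq_prime (show p • (⟨d w₀, w₀, rfl⟩ : U) = 0 from Subtype.ext (hW _)) hne0]
    exact addOrderOf_dvd_natCard _
  obtain ⟨u, hu, hu0⟩ := hH.exists_fixed_point_of_prime_dvd_card_of_fixed_point U hU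
    (a := (0 : U)) (fun h => Subtype.ext (map_zero (ρ h : AddMonoid.End W)))
  refine hu0 (Subtype.ext ?_).symm
  obtain ⟨w, hw⟩ := u.2
  have hlu := hfix u.1 fun h => congrArg Subtype.val (hu h)
  rw [hd', add_eq_left] at hlu
  rw [← hw] at hlu ⊢
  exact hinj w hlu

omit [Fact p.Prime] in
/-- The sum over an abelian group of automorphisms of the conjugates of a power of `g`. -/
theorem End.reindex {Kb : Subgroup (AddMonoid.End W)ˣ} [Fintype Kb] {k₁ : (AddMonoid.End W)ˣ}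
    (hk₁ : k₁ ∈ Kb) (hcomm : ∀ a ∈ Kb, ∀ b ∈ Kb, a * b = b * a) {x : (AddMonoid.End W)ˣ}
    (hx : ∀ k ∈ Kb, x * k * x⁻¹ ∈ Kb) :
    ((k₁ * (x * k₁⁻¹ * x⁻¹) : (AddMonoid.End W)ˣ) : AddMonoid.End W) *
        (∑ k : Kb, (((k : (AddMonoid.End W)ˣ) * x * (k : (AddMonoid.End W)ˣ)⁻¹ :
          (AddMonoid.End W)ˣ) : AddMonoid.End W)) =
      ∑ k : Kb, (((k : (AddMonoid.End W)ˣ) * x * (k : (AddMonoid.End W)ˣ)⁻¹ :
          (AddMonoid.End W)ˣ) : AddMonoid.End W) := by
  rw [Finset.mul_sum]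
  refine Fintype.sum_equiv (Equiv.mulLeft ⟨k₁, hk₁⟩) _ _ fun k => ?_
  rw [← Units.val_mul]
  congr 1
  have h1 := hcomm _ (hx _ (Kb.inv_mem hk₁)) _ k.2
  simp only [Equiv.coe_mulLeft, Subgroup.coe_mul]
  calc k₁ * (x * k₁⁻¹ * x⁻¹) * ((k : (AddMonoid.End W)ˣ) * x * (k : (AddMonoid.End W)ˣ)⁻¹)
      = k₁ * ((x * k₁⁻¹ * x⁻¹) * (k : (AddMonoid.End W)ˣ)) * x *
          (k : (AddMonoid.End W)ˣ)⁻¹ := by group
    _ = k₁ * (k : (AddMonoid.End W)ˣ) * x * (k₁⁻¹ * (k : (AddMonoid.End W)ˣ)⁻¹) := by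
        rw [h1]; group
    _ = k₁ * (k : (AddMonoid.End W)ˣ) * x * (k₁ * (k : (AddMonoid.End W)ˣ))⁻¹ := by
        rw [_root_.mul_inv_rev, hcomm _ (Kb.inv_mem hk₁) _ (Kb.inv_mem k.2)]

/-- **Vanishing norms.** -/
theorem End.trivial_of_norm_eq_zero (hW : ∀ w : W, p • w = 0) {Kb : Subgroup (AddMonoid.End W)ˣ}
    [Finite Kb] (hcomm : ∀ a ∈ Kb, ∀ b ∈ Kb, a * b = b * a) (hcop : (Nat.card Kb).Coprime p)
    {g : (AddMonoid.End W)ˣ} (hg : ∀ k ∈ Kb, g * k * g⁻¹ ∈ Kb) {f : ℕ}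
    (hgN : ∀ k ∈ Kb, g ^ p ^ (f + 1) * k = k * g ^ p ^ (f + 1)) {S : AddSubgroup W}
    (hKS : ∀ k ∈ Kb, ∀ w ∈ S, (k : AddMonoid.End W) w ∈ S)
    (hnorm : ∀ w ∈ S, (∑ i ∈ range (p ^ (f + 1)), (g : AddMonoid.End W) ^ i) w = 0)
    {k₀ : (AddMonoid.End W)ˣ} (hk₀ : k₀ ∈ Kb) {w : W} (hw : w ∈ S) :
    ((k₀ * (g ^ p ^ f * k₀⁻¹ * (g ^ p ^ f)⁻¹) : (AddMonoid.End W)ˣ) : AddMonoid.End W) w = w := by
  classical
  have hp : p.Prime := Fact.out
  haveI := Fintype.ofFinite Kb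
  set φ : ℕ → (AddMonoid.End W)ˣ → (AddMonoid.End W)ˣ :=
    fun i k => k * (g ^ i * k⁻¹ * (g ^ i)⁻¹) with hφ
  have hgi : ∀ (i : ℕ), ∀ k ∈ Kb, g ^ i * k * (g ^ i)⁻¹ ∈ Kb := by
    intro i
    induction i with
    | zero => intro k hk; simpa using hk
    | succ i ih =>
      intro k hk
      have := hg _ (ih k hk)
      have e : g ^ (i + 1) * k * (g ^ (i + 1))⁻¹ = g * (g ^ i * k * (g ^ i)⁻¹) * g⁻¹ := by
        rw [pow_succ']; group
      rwa [e]
  have hφK : ∀ i, ∀ k ∈ Kb, φ i k ∈ Kb := fun i k hk => mul_mem hk (hgi i _ (inv_mem hk))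
  have hmul : ∀ i, ∀ k ∈ Kb, ∀ l ∈ Kb, φ i (k * l) = φ i k * φ i l := by
    intro i k hk l hl
    have e : φ i (k * l) = k * (l * (g ^ i * l⁻¹ * (g ^ i)⁻¹)) * (g ^ i * k⁻¹ * (g ^ i)⁻¹) := by
      simp only [hφ]; group
    rw [e, mul_assoc, hcomm _ (hφK i l hl) _ (hgi i _ (inv_mem hk)), ← mul_assoc]
  have hgNm : ∀ m : ℕ, ∀ k ∈ Kb, Commute (g ^ (p ^ (f + 1) * m)) k := fun m k hk => by
    rw [pow_mul]
    exact (show Commute (g ^ p ^ (f + 1)) k from hgN k hk).pow_left m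
  -- the images of the maps `φ i`
  have hmem : ∀ i ∈ range (p ^ (f + 1)), i ≠ 0 → ∃ k ∈ Kb, φ i k = φ (p ^ f) k₀ := by
    intro i hi hi0
    rw [Finset.mem_range] at hi
    obtain ⟨s, u, hu, hiu⟩ := Nat.exists_eq_pow_mul_and_not_dvd hi0 p hp.ne_one
    have hs : s ≤ f := by
      by_contra hs
      push Not at hs
      have hu1 : 1 ≤ u := Nat.pos_of_ne_zero fun h => hu (h ▸ dvd_zero p)
      have h1 : p ^ (f + 1) ≤ p ^ s := Nat.pow_le_pow_right hp.pos hs
      have h2 : p ^ s ≤ i := hiu ▸ Nat.le_mul_of_pos_right _ hu1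
      omega
    have hcop' : u.Coprime (p ^ (f + 1)) :=
      ((Nat.Prime.coprime_iff_not_dvd hp).2 hu).symm.pow_right _
    obtain ⟨v, -, hv⟩ := Nat.exists_mul_mod_eq_one_of_coprime hcop'
      (Nat.one_lt_pow (Nat.succ_ne_zero f) hp.one_lt)
    -- a multiple of `i` congruent to `p ^ f`
    set j := v * p ^ (f - s) with hj
    obtain ⟨m, hm⟩ : ∃ m, i * j = p ^ f + p ^ (f + 1) * m := by
      refine ⟨u * v / p ^ (f + 1) * p ^ f, ?_⟩
      have e := Nat.mod_add_div (u * v) (p ^ (f + 1))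
      rw [hv] at e
      calc i * j = p ^ s * p ^ (f - s) * (u * v) := by rw [hiu, hj]; ring
        _ = p ^ f * (u * v) := by rw [← pow_add, Nat.add_sub_cancel' hs]
        _ = p ^ f * (1 + p ^ (f + 1) * (u * v / p ^ (f + 1))) := by rw [e]
        _ = _ := by ring
    have hall : ∀ j : ℕ, ∃ k ∈ Kb, φ i k = φ (i * j) k₀ := by
      intro j
      induction j with
      | zero => exact ⟨1, Kb.one_mem, by simp [hφ]⟩
      | succ j ih =>
        obtain ⟨k, hk, hkj⟩ := ih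
        refine ⟨k * (g ^ (i * j) * k₀ * (g ^ (i * j))⁻¹), mul_mem hk (hgi _ k₀ hk₀), ?_⟩
        rw [hmul i k hk _ (hgi _ k₀ hk₀), hkj]
        simp only [hφ, Nat.mul_succ, pow_add]
        group
    obtain ⟨k, hk, hkj⟩ := hall j
    refine ⟨k, hk, hkj.trans ?_⟩
    have hc := (hgNm m k₀⁻¹ (Kb.inv_mem hk₀)).eq
    simp only [hφ, hm]
    rw [pow_add g]
    calc k₀ * (g ^ p ^ f * g ^ (p ^ (f + 1) * m) * k₀⁻¹ * (g ^ p ^ f * g ^ (p ^ (f + 1) * m))⁻¹)
        = k₀ * (g ^ p ^ f * (g ^ (p ^ (f + 1) * m) * k₀⁻¹) * (g ^ (p ^ (f + 1) * m))⁻¹ *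
            (g ^ p ^ f)⁻¹) := by group
      _ = _ := by rw [hc]; group
  set l : AddMonoid.End W := ((φ (p ^ f) k₀ : (AddMonoid.End W)ˣ) : AddMonoid.End W) with hl
  set F : ℕ → AddMonoid.End W := fun i => ∑ k : Kb,
    (((k : (AddMonoid.End W)ˣ) * g ^ i * (k : (AddMonoid.End W)ˣ)⁻¹ : (AddMonoid.End W)ˣ) :
      AddMonoid.End W) with hF
  have htot : ∀ w ∈ S, (∑ i ∈ range (p ^ (f + 1)), F i) w = 0 := by
    intro w hw
    rw [hF, Finset.sum_comm, End.sum_apply]
    refine Finset.sum_eq_zero fun k _ => ?_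
    have h := hnorm _ (hKS _ (Kb.inv_mem k.2) w hw)
    simp only [Units.val_mul, Units.val_pow_eq_pow_val]
    rw [← Finset.sum_mul, ← Finset.mul_sum, AddMonoid.End.coe_mul, Function.comp_apply,
      AddMonoid.End.coe_mul, Function.comp_apply, h, map_zero]
  have hlF : ∀ i ∈ range (p ^ (f + 1)), i ≠ 0 → l * F i = F i := by
    intro i hi hi0
    obtain ⟨k, hk, hkl⟩ := hmem i hi hi0
    rw [hl, ← hkl, hF]
    exact End.reindex hk hcomm (hgi i)
  have hF0 : ∀ w, (F 0) w = Nat.card Kb • w := by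
    intro w
    simp [hF, Nat.card_eq_fintype_card]
  have h0 := htot w hw
  rw [← Finset.add_sum_erase _ _ (Finset.mem_range.2 (pow_pos hp.pos _) :
    0 ∈ range (p ^ (f + 1))), End.add_apply] at h0
  have hfix : l ((∑ i ∈ (range (p ^ (f + 1))).erase 0, F i) w) =
      (∑ i ∈ (range (p ^ (f + 1))).erase 0, F i) w := by
    have : l * (∑ i ∈ (range (p ^ (f + 1))).erase 0, F i) =
        ∑ i ∈ (range (p ^ (f + 1))).erase 0, F i := by
      rw [Finset.mul_sum]
      exact Finset.sum_congr rfl fun i hi => hlF i (Finset.mem_of_mem_erase hi)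
        (Finset.ne_of_mem_erase hi)
    exact DFunLike.congr_fun this w
  have hlF0 : l (F 0 w) = F 0 w := by
    rw [eq_neg_of_add_eq_zero_left h0, map_neg, hfix]
  rw [hF0, map_nsmul] at hlF0
  -- `|Kb|` is invertible modulo `p`
  have h1 : Nat.card Kb • (l w - w) = 0 := by rw [nsmul_sub, hlF0, sub_self]
  have h2 : addOrderOf (l w - w) ∣ Nat.gcd (Nat.card Kb) p :=
    Nat.dvd_gcd (addOrderOf_dvd_of_nsmul_eq_zero h1) (addOrderOf_dvd_of_nsmul_eq_zero (hW _))
  rw [hcop, Nat.dvd_one, AddMonoid.addOrderOf_eq_one_iff, sub_eq_zero] at h2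
  exact h2

end Cfsg.Agent.Lib.OffenderJ
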