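import Cfsg.Agent.Lib.OffenderJ.Pairing
import Cfsg.Agent.Lib.OffenderJ.Norm
import Cfsg.Agent.Lib.Coprime.Cocyclic

/-!
# A normal section `B / E` on which an abelian `p'`-group acts faithfully
-/

set_option autoImplicit false

namespace Cfsg.Agent.Lib.OffenderJ

open Subgroup
open scoped commutatorElement

/-- A normal `p`-section `B / E`, presented as the additive group `V`, with `E` central in `B` and
absorbing `⁅B, Q⁆`, on which `K / Q` acts as an abelian `p'`-group faithfully normalised by `P`. -/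
structure Config (p : ℕ) (G : Type*) [Group G] (V : Type*) [AddCommGroup V] where
  (P Q K B E : Subgroup G)
  normalK : K.Normal
  normalB : B.Normal
  normalE : E.Normal
  isPGroupP : IsPGroup p P
  Q_le : Q ≤ P
  B_le : B ≤ Q
  E_le : E ≤ B
  commQ : ∀ b ∈ B, ∀ q ∈ Q, ⁅b, q⁆ ∈ E
  centralE : ∀ b ∈ B, ∀ e ∈ E, Commute b e
  π : G → V
  π_mul : ∀ x ∈ B, ∀ y ∈ B, π (x * y) = π x + π y
  π_eq_zero : ∀ x ∈ B, π x = 0 ↔ x ∈ E
  π_surj : ∀ v, ∃ x ∈ B, π x = v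
  ρ : G →* (AddMonoid.End V)ˣ
  ρ_conj : ∀ g, ∀ b ∈ B, (ρ g : AddMonoid.End V) (π b) = π (g * b * g⁻¹)
  ρQ : ∀ q ∈ Q, ρ q = 1
  p_smul : ∀ v : V, p • v = 0
  ρK_comm : ∀ k ∈ K, ∀ k' ∈ K, ρ k * ρ k' = ρ k' * ρ k
  K_pow : ∀ k ∈ K, ∃ n : ℕ, n.Coprime p ∧ k ^ n ∈ Q
  faithful : ∀ g ∈ P, (∀ k ∈ K, ρ g * ρ k = ρ k * ρ g) → g ∈ Q

namespace Config

variable {p : ℕ} {G : Type*} [Group G] {V : Type*} [AddCommGroup V] (C : Config p G V)

/-- `ρ g - 1`. -/
def dEnd (g : G) : AddMonoid.End V := (C.ρ g : AddMonoid.End V) - 1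

theorem π_one : C.π 1 = 0 := (C.π_eq_zero 1 C.B.one_mem).2 C.E.one_mem

theorem π_inv {x : G} (hx : x ∈ C.B) : C.π x⁻¹ = -C.π x := by
  have h := C.π_mul x hx x⁻¹ (C.B.inv_mem hx)
  rw [mul_inv_cancel, C.π_one] at h
  exact eq_neg_of_add_eq_zero_right h.symm

theorem π_div_mem {x y : G} (hx : x ∈ C.B) (hy : y ∈ C.B) (h : C.π x = C.π y) : x⁻¹ * y ∈ C.E := by
  refine (C.π_eq_zero _ (C.B.mul_mem (C.B.inv_mem hx) hy)).1 ?_
  rw [C.π_mul _ (C.B.inv_mem hx) _ hy, C.π_inv hx, h, neg_add_cancel]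

theorem commute_E {e e' : G} (he : e ∈ C.E) (he' : e' ∈ C.E) : Commute e e' :=
  C.centralE e (C.E_le he) e' he'

theorem conj_mem_B (g : G) {b : G} (hb : b ∈ C.B) : g * b * g⁻¹ ∈ C.B :=
  C.normalB.conj_mem b hb g

theorem comm_mem_B (g : G) {b : G} (hb : b ∈ C.B) : ⁅g, b⁆ ∈ C.B := by
  rw [commutatorElement_def]
  exact C.B.mul_mem (C.conj_mem_B g hb) (C.B.inv_mem hb)

theorem comm_mem_E (g : G) {e : G} (he : e ∈ C.E) : ⁅g, e⁆ ∈ C.E := by
  rw [commutatorElement_def]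
  exact C.E.mul_mem (C.normalE.conj_mem e he g) (C.E.inv_mem he)

theorem iterC_mem_B (g : G) (m : ℕ) {b : G} (hb : b ∈ C.B) : iterC g m b ∈ C.B := by
  induction m with
  | zero => exact hb
  | succ m ih => rw [iterC_succ]; exact C.comm_mem_B g ih

theorem iterC_mem_E (g : G) (m : ℕ) {e : G} (he : e ∈ C.E) : iterC g m e ∈ C.E := by
  induction m with
  | zero => exact he
  | succ m ih => rw [iterC_succ]; exact C.comm_mem_E g ih

theorem π_comm (g : G) {b : G} (hb : b ∈ C.B) : C.π ⁅g, b⁆ = C.dEnd g (C.π b) := by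
  rw [commutatorElement_def, C.π_mul _ (C.conj_mem_B g hb) _ (C.B.inv_mem hb), C.π_inv hb,
    ← C.ρ_conj g b hb, ← sub_eq_add_neg]
  rfl

theorem π_iterC (g : G) (m : ℕ) {b : G} (hb : b ∈ C.B) :
    C.π (iterC g m b) = (C.dEnd g ^ m) (C.π b) := by
  induction m with
  | zero => rfl
  | succ m ih =>
    rw [iterC_succ, C.π_comm g (C.iterC_mem_B g m hb), ih, pow_succ' (C.dEnd g)]
    rfl

theorem finite_V [Finite G] (C : Config p G V) : Finite V :=
  Finite.of_surjective (fun x : C.B => C.π x) fun v => by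
    obtain ⟨x, hx, rfl⟩ := C.π_surj v
    exact ⟨⟨x, hx⟩, rfl⟩

/-- The elements of `B` fixed by `D` modulo `E`. -/
def fixedMod (D : Subgroup G) : Subgroup G where
  carrier := {v | v ∈ C.B ∧ ∀ d ∈ D, C.dEnd d (C.π v) = 0}
  one_mem' := ⟨C.B.one_mem, fun d _ => by rw [C.π_one, map_zero]⟩
  mul_mem' := fun {x y} hx hy => ⟨C.B.mul_mem hx.1 hy.1, fun d hd => by
    rw [C.π_mul x hx.1 y hy.1, map_add, hx.2 d hd, hy.2 d hd, add_zero]⟩
  inv_mem' := fun {x} hx => ⟨C.B.inv_mem hx.1, fun d hd => by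
    rw [C.π_inv hx.1, map_neg, hx.2 d hd, neg_zero]⟩

theorem comm_mem_E_of_fixedMod {D : Subgroup G} {v d : G} (hv : v ∈ C.fixedMod D) (hd : d ∈ D) :
    ⁅d, v⁆ ∈ C.E :=
  (C.π_eq_zero _ (C.comm_mem_B d hv.1)).1 (by rw [C.π_comm d hv.1]; exact hv.2 d hd)

theorem fixedMod_anti {D D' : Subgroup G} (h : D ≤ D') : C.fixedMod D' ≤ C.fixedMod D :=
  fun _ hx => ⟨hx.1, fun d hd => hx.2 d (h hd)⟩

theorem pow_eq_one_of_mem_map_K [Finite G] [Fact p.Prime] (C : Config p G V) :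
    (Nat.card (C.K.map C.ρ)).Coprime p := by
  have hp : p.Prime := Fact.out
  haveI := C.finite_V
  haveI : Finite (C.K.map C.ρ) := Finite.of_surjective (fun k : C.K => (⟨C.ρ k, mem_map_of_mem _ k.2⟩ :
      C.K.map C.ρ)) fun x => by
    obtain ⟨k, hk, hx⟩ := x.2
    exact ⟨⟨k, hk⟩, Subtype.ext hx⟩
  refine Nat.Coprime.symm ((hp.coprime_iff_not_dvd).2 fun hdvd => ?_)
  obtain ⟨⟨x, hx⟩, hxp⟩ := exists_prime_orderOf_dvd_card' p hdvd
  obtain ⟨k, hk, rfl⟩ := hx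
  obtain ⟨n, hn, hkn⟩ := C.K_pow k hk
  have h1 : p ∣ n := by
    rw [← hxp]
    refine orderOf_dvd_of_pow_eq_one (Subtype.ext ?_)
    rw [SubgroupClass.coe_pow, OneMemClass.coe_one, ← map_pow]
    exact C.ρQ _ hkn
  exact hp.ne_one (Nat.eq_one_of_dvd_coprimes hn h1 dvd_rfl)

theorem p_group_pow {a : G} (ha : a ∈ C.P) : ∃ n, a ^ p ^ n = 1 := by
  obtain ⟨n, hn⟩ := C.isPGroupP ⟨a, ha⟩
  exact ⟨n, congrArg Subtype.val hn⟩

/-- A cocyclic subgroup of `D` fixing a point on which the norm of a generator does not vanish. -/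
theorem exists_norm [Finite G] [Fact p.Prime] (C : Config p G V) {A D : Subgroup G}
    (hA : ∀ x ∈ A, ∀ y ∈ A, Commute x y) (hAP : A ≤ C.P) (hDA : D ≤ A)
    (hID : A ⊓ C.Q ≤ D) (hne : ¬ D ≤ C.Q) :
    ∃ (H : Subgroup G) (a : G) (f : ℕ) (x : G), H < D ∧ A ⊓ C.Q ≤ H ∧ a ∈ D ∧
      D ≤ H ⊔ zpowers a ∧ a ^ p ^ (f + 1) ∈ H ∧ x ∈ C.fixedMod H ∧
      (C.dEnd a ^ (p ^ (f + 1) - 1)) (C.π x) ≠ 0 := by
  classical
  have hp : p.Prime := Fact.out
  haveI := C.finite_V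
  haveI : Finite (AddMonoid.End V) := Finite.of_injective _ DFunLike.coe_injective
  haveI : Finite (AddMonoid.End V)ˣ := Finite.of_injective _ Units.val_injective
  -- an element of order `p` modulo `A ⊓ Q`
  obtain ⟨b, hbD, hbQ, hbp⟩ : ∃ b ∈ D, b ∉ C.Q ∧ b ^ p ∈ C.Q := by
    obtain ⟨y, hy, hyQ⟩ := SetLike.not_le_iff_exists.1 hne
    obtain ⟨n, hn⟩ := C.p_group_pow (hAP (hDA hy))
    have hex : ∃ j, y ^ p ^ j ∈ C.Q := ⟨n, by rw [hn]; exact one_mem _⟩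
    have h0 : Nat.find hex ≠ 0 := fun h => hyQ (by simpa [h] using Nat.find_spec hex)
    obtain ⟨j, hj⟩ := Nat.exists_eq_succ_of_ne_zero h0
    refine ⟨y ^ p ^ j, pow_mem hy _, Nat.find_min hex (by omega), ?_⟩
    rw [← pow_mul, ← pow_succ, ← Nat.succ_eq_add_one, ← hj]
    exact Nat.find_spec hex
  set Dm := D.map C.ρ with hDm
  set Kb := C.K.map C.ρ with hKb
  haveI : IsMulCommutative Dm := ⟨⟨by
    rintro ⟨_, x, hx, rfl⟩ ⟨_, y, hy, rfl⟩
    refine Subtype.ext ?_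
    show C.ρ x * C.ρ y = C.ρ y * C.ρ x
    rw [← map_mul, (hA x (hDA hx) y (hDA hy)).eq, map_mul]⟩⟩
  have hnorm : ∀ g : G, C.ρ g ∈ normalizer (Kb : Set (AddMonoid.End V)ˣ) := by
    intro g
    haveI := C.normalK
    exact le_normalizer_map C.ρ (mem_map_of_mem _ (by rw [normalizer_eq_top C.K]; trivial))
  have hcop : (Nat.card Dm).Coprime (Nat.card Kb) := by
    obtain ⟨j, hj⟩ := IsPGroup.iff_card.1 ((C.isPGroupP.to_le (hDA.trans hAP)).map C.ρ)
    rw [hDm, hj]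
    exact ((C.pow_eq_one_of_mem_map_K).symm).pow_left j
  obtain ⟨k₀, hk₀, hk₀b⟩ : ∃ k ∈ Kb, k ∉ centralizer ({C.ρ b} : Set (AddMonoid.End V)ˣ) := by
    refine SetLike.not_le_iff_exists.1 fun hle => hbQ (C.faithful b (hAP (hDA hbD)) fun k hk => ?_)
    exact (mem_centralizer_singleton_iff.1 (hle (mem_map_of_mem C.ρ hk))).symm
  have hex : ∃ B₀ ≤ Dm, ∃ g ∈ Dm, B₀ ⊔ zpowers g = Dm ∧
      ¬ Kb ⊓ centralizer (B₀ : Set (AddMonoid.End V)ˣ) ≤
        centralizer ({C.ρ b} : Set (AddMonoid.End V)ˣ) := by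
    by_contra h
    push Not at h
    refine hk₀b (Coprime.le_of_cocyclic (fun x hx => ?_) hcop h hk₀)
    obtain ⟨d, -, rfl⟩ := hx
    exact hnorm d
  obtain ⟨B₀, hB₀, g, hg, hsup, hnle⟩ := hex
  obtain ⟨k, ⟨hkK, hkB⟩, hkb⟩ := SetLike.not_le_iff_exists.1 hnle
  obtain ⟨a, haD, rfl⟩ := hg
  set H := D ⊓ B₀.comap C.ρ with hH
  have hIH : A ⊓ C.Q ≤ H := fun i hi => ⟨hID hi, mem_comap.2 (by
    rw [C.ρQ i hi.2]; exact one_mem _)⟩
  have hgen : D ≤ H ⊔ zpowers a := by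
    have hle : H ⊔ zpowers a ≤ D := sup_le inf_le_left (zpowers_le.2 haD)
    have himg : Dm ≤ (H ⊔ zpowers a).map C.ρ := by
      rw [← hsup, Subgroup.map_sup, MonoidHom.map_zpowers]
      refine sup_le_sup_right (fun β hβ => ?_) _
      obtain ⟨d, hd, rfl⟩ := hB₀ hβ
      exact mem_map_of_mem _ ⟨hd, hβ⟩
    intro d hd
    obtain ⟨d₂, hd₂, he⟩ := himg (mem_map_of_mem C.ρ hd)
    have hker : d₂⁻¹ * d ∈ H := ⟨D.mul_mem (D.inv_mem (hle hd₂)) hd, mem_comap.2 (by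
      rw [map_mul, map_inv, he, inv_mul_cancel]; exact one_mem _)⟩
    have := mul_mem hd₂ (mem_sup_left (T := zpowers a) hker)
    rwa [mul_inv_cancel_left] at this
  have hkH : ∀ h ∈ H, Commute (C.ρ h) k := fun h hh => mem_centralizer_iff.1 hkB _ hh.2
  have hbH : b ∉ H := fun h => hkb (mem_centralizer_singleton_iff.2 (hkH b h).eq.symm)
  -- the order of `a` modulo `H`
  have hexe : ∃ e, a ^ p ^ e ∈ H := by
    obtain ⟨n, hn⟩ := C.p_group_pow (hAP (hDA haD))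
    exact ⟨n, by rw [hn]; exact one_mem _⟩
  have he0 : Nat.find hexe ≠ 0 := fun h => by
    have ha : a ∈ H := by simpa [h] using Nat.find_spec hexe
    exact hbH ((sup_le le_rfl (zpowers_le.2 ha) : H ⊔ zpowers a ≤ H) (hgen hbD))
  obtain ⟨f, hf⟩ := Nat.exists_eq_succ_of_ne_zero he0
  have haN : a ^ p ^ (f + 1) ∈ H := by
    have := Nat.find_spec hexe
    rwa [hf] at this
  have haf : a ^ p ^ f ∉ H := Nat.find_min hexe (by omega)
  have hHD : H < D := lt_of_le_of_ne inf_le_left fun h => hbH (h ▸ hbD)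
  refine ⟨H, a, f, ?_⟩
  suffices ∃ x, x ∈ C.fixedMod H ∧ (C.dEnd a ^ (p ^ (f + 1) - 1)) (C.π x) ≠ 0 by
    obtain ⟨x, hx1, hx2⟩ := this
    exact ⟨x, hHD, hIH, haD, hgen, haN, hx1, hx2⟩
  by_contra hno
  push Not at hno
  -- the fixed points of `H`
  let S : AddSubgroup V :=
    { carrier := {v | ∀ h ∈ H, (C.ρ h : AddMonoid.End V) v = v}
      zero_mem' := fun h _ => map_zero _
      add_mem' := fun {u v} hu hv h hh => by rw [map_add, hu h hh, hv h hh]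
      neg_mem' := fun {u} hu h hh => by rw [map_neg, hu h hh] }
  set Kc := Kb ⊓ centralizer (B₀ : Set (AddMonoid.End V)ˣ) with hKc
  have hKcK : Kc ≤ Kb := inf_le_left
  have hKccomm : ∀ x ∈ Kc, ∀ y ∈ Kc, x * y = y * x := by
    intro x hx y hy
    obtain ⟨x', hx', rfl⟩ := hx.1
    obtain ⟨y', hy', rfl⟩ := hy.1
    exact C.ρK_comm x' hx' y' hy'
  have hKccop : (Nat.card Kc).Coprime p :=
    C.pow_eq_one_of_mem_map_K.coprime_dvd_left (card_dvd_of_le hKcK)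
  have hconj : ∀ y ∈ Kc, C.ρ a * y * (C.ρ a)⁻¹ ∈ Kc := by
    intro y hy
    refine ⟨(mem_normalizer_iff.1 (hnorm a) y).1 hy.1, mem_centralizer_iff.2 fun β hβ => ?_⟩
    have hcβ : Commute β (C.ρ a) := congrArg Subtype.val
      (mul_comm' (⟨β, hB₀ hβ⟩ : Dm) ⟨C.ρ a, mem_map_of_mem _ haD⟩)
    exact ((hcβ.mul_right (show Commute β y from mem_centralizer_iff.1 hy.2 β hβ)).mul_right
      hcβ.inv_right).eq
  have hgN : ∀ y ∈ Kc, C.ρ a ^ p ^ (f + 1) * y = y * C.ρ a ^ p ^ (f + 1) := by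
    intro y hy
    rw [← map_pow]
    exact mem_centralizer_iff.1 hy.2 _ haN.2
  have hKS : ∀ y ∈ Kc, ∀ w ∈ S, (y : AddMonoid.End V) w ∈ S := by
    intro y hy w hw h hh
    have hc := DFunLike.congr_fun (congrArg Units.val (mem_centralizer_iff.1 hy.2 (C.ρ h) hh.2)) w
    simp only [Units.val_mul, AddMonoid.End.coe_mul, Function.comp_apply] at hc
    rw [hc, hw h hh]
  have hsum : ∀ w ∈ S, (∑ i ∈ Finset.range (p ^ (f + 1)),
      (C.ρ a : AddMonoid.End V) ^ i) w = 0 := by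
    intro w hw
    obtain ⟨x, hx, rfl⟩ := C.π_surj w
    rw [(End.sum_pow_eq_and_pow_sub_one C.p_smul _ _).1]
    refine hno x ⟨hx, fun h hh => ?_⟩
    show (C.ρ h : AddMonoid.End V) (C.π x) - C.π x = 0
    rw [hw h hh, sub_self]
  set c := C.ρ a ^ p ^ f with hc
  set l := k * (c * k⁻¹ * c⁻¹) with hl
  have hgi : ∀ i : ℕ, ∀ y ∈ Kc, C.ρ a ^ i * y * (C.ρ a ^ i)⁻¹ ∈ Kc := by
    intro i
    induction i with
    | zero => intro y hy; simpa using hy
    | succ i ih =>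
      intro y hy
      have := hconj _ (ih y hy)
      rw [pow_succ']
      simpa [mul_assoc] using this
  have hlK : l ∈ Kc := mul_mem ⟨hkK, hkB⟩ (hgi _ _ (inv_mem ⟨hkK, hkB⟩))
  have hl1 : l = 1 := by
    refine End.eq_one_of_trivial_on_fixed C.p_smul (C.isPGroupP.to_le (inf_le_left.trans
      (hDA.trans hAP)) : IsPGroup p H) (C.ρ.comp H.subtype) (n := Nat.card Kc) hKccop ?_ ?_ ?_
    · exact congrArg Subtype.val (pow_card_eq_one' (x := (⟨l, hlK⟩ : Kc)))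
    · intro h
      exact (mem_centralizer_iff.1 hlK.2 _ h.2.2).symm
    · intro w hw
      exact End.trivial_of_norm_eq_zero C.p_smul hKccomm hKccop hconj hgN hKS hsum
        (⟨hkK, hkB⟩ : k ∈ Kc) (show w ∈ S from fun h hh => hw ⟨h, hh⟩)
  have hck : Commute c k := by
    rw [hl, mul_eq_one_iff_inv_eq] at hl1
    have h2 : k⁻¹ * c = c * k⁻¹ := by
      nth_rewrite 1 [hl1]
      group
    exact ((show Commute k⁻¹ c from h2).inv_left.symm : Commute c k⁻¹⁻¹) |> fun h => by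
      simpa using h
  -- `b` lies in `H ⟨a ^ (p ^ f)⟩`
  have haA := hDA haD
  have hcH : zpowers a ≤ normalizer (H : Set G) := by
    refine le_trans ?_ (centralizer_le_normalizer _)
    refine zpowers_le.2 (mem_centralizer_iff.2 fun h hh => (hA h (hDA hh.1) a haA).eq)
  have hb' : b ∈ ((H ⊔ zpowers a : Subgroup G) : Set G) := hgen hbD
  rw [coe_mul_of_right_le_normalizer_left H (zpowers a) hcH] at hb'
  obtain ⟨h, hh, _, ⟨i, rfl⟩, hbe⟩ := hb'
  simp only at hbe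
  have hip : a ^ (i * p) ∈ H := by
    have e : b ^ p = h ^ p * a ^ (i * p) := by
      rw [← hbe, (show Commute h (a ^ i) from (hA h (hDA hh.1) a haA).zpow_right i).mul_pow,
        zpow_mul, zpow_natCast]
    have : a ^ (i * p) = (h ^ p)⁻¹ * b ^ p := by rw [e, inv_mul_cancel_left]
    rw [this]
    exact mul_mem (inv_mem (pow_mem hh _))
      (hIH ⟨A.pow_mem (hDA hbD) p, hbp⟩)
  have hdvd : (p : ℤ) ^ f ∣ i := by
    set d := Int.gcd (i * p) ((p : ℤ) ^ (f + 1)) with hd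
    have hd1 : d ∣ p ^ (f + 1) := by
      have := Int.gcd_dvd_right (i * p) ((p : ℤ) ^ (f + 1))
      exact_mod_cast this
    obtain ⟨j, hj, hdj⟩ := (Nat.dvd_prime_pow hp).1 hd1
    have hmem : a ^ d ∈ H := by
      rw [← zpow_natCast, hd, Int.gcd_eq_gcd_ab, zpow_add, zpow_mul a (i * p),
        zpow_mul a ((p : ℤ) ^ (f + 1))]
      refine mul_mem (zpow_mem hip _) (zpow_mem ?_ _)
      rw [show ((p : ℤ) ^ (f + 1)) = ((p ^ (f + 1) : ℕ) : ℤ) by push_cast; ring, zpow_natCast]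
      exact haN
    rcases hj.lt_or_eq with hlt | rfl
    · refine absurd ?_ haf
      have : a ^ p ^ f = (a ^ d) ^ p ^ (f - j) := by
        rw [hdj, ← pow_mul, ← pow_add, Nat.add_sub_cancel' (by omega)]
      rw [this]
      exact pow_mem hmem _
    · have := Int.gcd_dvd_left (i * p) ((p : ℤ) ^ (f + 1))
      rw [← hd, hdj, Nat.cast_pow, pow_succ] at this
      exact Int.dvd_of_mul_dvd_mul_right (by exact_mod_cast hp.ne_zero) this
  obtain ⟨t, rfl⟩ := hdvd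
  refine hkb (mem_centralizer_singleton_iff.2 ?_)
  have : C.ρ b = C.ρ h * c ^ t := by
    rw [← hbe, map_mul, map_zpow, hc, ← zpow_natCast, ← zpow_mul]
    push_cast
    rfl
  rw [this]
  exact ((hkH h hh).mul_left (hck.zpow_left t)).eq.symm

end Config

end Cfsg.Agent.Lib.OffenderJ
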