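import Cfsg.Agent.Lib.OffenderJ.Config

/-!
# An abelian subgroup of `Q` larger than an abelian subgroup outside `Q`
-/

set_option autoImplicit false

namespace Cfsg.Agent.Lib.OffenderJ

open Subgroup
open scoped commutatorElement

theorem End.inv_sub_one {W : Type*} [AddCommGroup W] (u : (AddMonoid.End W)ˣ) :
    ((↑u⁻¹ : AddMonoid.End W) - 1) = -(↑u⁻¹ : AddMonoid.End W) * ((u : AddMonoid.End W) - 1) := by
  rw [mul_sub, mul_one, neg_mul, Units.inv_mul, sub_neg_eq_add, neg_add_eq_sub]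

theorem bound_pow {p : ℕ} (hp : 5 ≤ p) (f : ℕ) : 2 * f + 5 ≤ p ^ (f + 1) := by
  induction f with
  | zero => simpa using hp
  | succ f ih => rw [pow_succ]; nlinarith

theorem relIndex_ne_zero' {G : Type*} [Group G] [Finite G] (H K : Subgroup G) :
    H.relIndex K ≠ 0 :=
  index_ne_zero_of_finite

namespace Config

variable {p : ℕ} {G : Type*} [Group G] {V : Type*} [AddCommGroup V] (C : Config p G V)

theorem dEnd_inv (g : G) :
    C.dEnd g⁻¹ = -(C.ρ g⁻¹ : AddMonoid.End V) * C.dEnd g := by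
  rw [dEnd, dEnd, map_inv]
  exact End.inv_sub_one (C.ρ g)

theorem dEnd_inv_pow (g : G) (k : ℕ) :
    C.dEnd g⁻¹ ^ k = (-(C.ρ g⁻¹ : AddMonoid.End V)) ^ k * C.dEnd g ^ k := by
  rw [dEnd_inv]
  refine Commute.mul_pow ?_ k
  refine Commute.neg_left (Commute.sub_right ?_ (Commute.one_right _))
  rw [map_inv]
  exact (Commute.refl (C.ρ g)).inv_left.units_val

theorem pairingB {a : G} (hquad : ∀ e ∈ C.E, ⁅a, ⁅a, e⁆⁆ = 1) : Pairing C.B C.B C.E a where
  conj_B := fun _ hq => C.conj_mem_B a hq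
  conj_X := fun _ hv => C.comm_mem_B a⁻¹ hv
  conj_E := fun _ he => C.comm_mem_E a he
  comm_E := fun _ he _ he' => C.commute_E he he'
  comm_B := fun q hq e he => C.centralE q hq e he
  values := fun q hq v hv => C.commQ q hq v (C.B_le hv)
  comm_X := fun v hv e he => C.centralE _ (C.comm_mem_B a⁻¹ hv) e he
  quad := hquad

theorem pairingI {a : G} {I : Subgroup G} (hquad : ∀ e ∈ C.E, ⁅a, ⁅a, e⁆⁆ = 1) (hI : I ≤ C.Q)
    (ha : ∀ i ∈ I, ⁅a⁻¹, i⁆ = 1) : Pairing C.B I C.E a where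
  conj_B := fun _ hq => C.conj_mem_B a hq
  conj_X := fun v hv => by rw [ha v hv]; exact one_mem _
  conj_E := fun _ he => C.comm_mem_E a he
  comm_E := fun _ he _ he' => C.commute_E he he'
  comm_B := fun q hq e he => C.centralE q hq e he
  values := fun q hq v hv => C.commQ q hq v (hI hv)
  comm_X := fun v hv e _ => by rw [ha v hv]; exact Commute.one_left e
  quad := hquad

theorem comm_eq_one_of_mem_E {q e : G} (hq : q ∈ C.B) (he : e ∈ C.E) : ⁅q, e⁆ = 1 :=
  commutatorElement_eq_one_iff_commute.2 (C.centralE q hq e he)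

theorem comm_congr {q u v : G} (hq : q ∈ C.B) (hu : u ∈ C.B) (hv : v ∈ C.B)
    (h : C.π u = C.π v) : ⁅q, u⁆ = ⁅q, v⁆ := by
  obtain ⟨e, he, rfl⟩ : ∃ e ∈ C.E, v = u * e :=
    ⟨u⁻¹ * v, C.π_div_mem hu hv h, (mul_inv_cancel_left u v).symm⟩
  have : ⁅q, u * e⁆ = ⁅q, u⁆ * (u * ⁅q, e⁆ * u⁻¹) := by simp only [commutatorElement_def]; group
  rw [this, C.comm_eq_one_of_mem_E hq he, mul_one, mul_inv_cancel, mul_one]

theorem comm_inv_right {q u : G} (hq : q ∈ C.B) (hu : u ∈ C.B) : ⁅q, u⁻¹⁆ = ⁅q, u⁆⁻¹ := by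
  have h1 : ⁅q, u⁻¹⁆ = u⁻¹ * ⁅q, u⁆⁻¹ * u := by simp only [commutatorElement_def]; group
  rw [h1, ((C.centralE _ hu _ (C.commQ q hq u (C.B_le hu))).inv_left.inv_right).eq,
    inv_mul_cancel_right]

/-- The elements `d ^ m x` commute among themselves. -/
theorem commute_powers [Finite G] [Fact p.Prime] (hp : 5 ≤ p) (C : Config p G V) {a x : G}
    (hquad : ∀ e ∈ C.E, ⁅a, ⁅a, e⁆⁆ = 1) (hx : x ∈ C.B) {N : ℕ} (hN : Even (N - 1))
    (hzero : (C.dEnd a ^ N) (C.π x) = 0) {m m' : ℕ} (hm : 1 ≤ m) (hN1 : 1 ≤ N) (hmm : N ≤ m + m') :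
    Commute (iterC a m x) (iterC a m' x) := by
  have hpp : p.Prime := Fact.out
  obtain ⟨k, rfl⟩ := Nat.exists_eq_succ_of_ne_zero (by omega : m ≠ 0)
  have hpair := C.pairingB hquad
  have hv := C.iterC_mem_B a m' hx
  have hlt : ∀ j, N ≤ j → (C.dEnd a ^ j) (C.π x) = 0 := by
    intro j hj
    rw [← Nat.sub_add_cancel hj, pow_add, AddMonoid.End.coe_mul, Function.comp_apply, hzero,
      map_zero]
  have hπ : ∀ j, C.π (iterC a⁻¹ j (iterC a m' x)) =
      ((-(C.ρ a⁻¹ : AddMonoid.End V)) ^ j) ((C.dEnd a ^ (j + m')) (C.π x)) := by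
    intro j
    rw [C.π_iterC _ _ hv, C.π_iterC _ _ hx, C.dEnd_inv_pow, pow_add]
    rfl
  rw [← commutatorElement_eq_one_iff_commute]
  refine hpair.vanish k hx hv (fun q hq => C.comm_eq_one_of_mem_E hq ?_) ?_
  · refine (C.π_eq_zero _ (C.iterC_mem_B _ _ hv)).1 ?_
    rw [hπ, hlt _ (by omega), map_zero]
  by_cases hbig : N ≤ k + m'
  · rw [C.comm_eq_one_of_mem_E hx ((C.π_eq_zero _ (C.iterC_mem_B _ _ hv)).1
      (by rw [hπ, hlt _ hbig, map_zero])), commutatorElement_one_right]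
  -- the last term
  set z := iterC a (N - 1) x with hz
  have hzB : z ∈ C.B := C.iterC_mem_B a _ hx
  have hfix : (C.ρ a⁻¹ : AddMonoid.End V) (C.π z) = C.π z := by
    have h0 : C.dEnd a (C.π z) = 0 := by
      rw [hz, C.π_iterC _ _ hx]
      show (C.dEnd a * C.dEnd a ^ (N - 1)) (C.π x) = 0
      rw [← pow_succ' (C.dEnd a), Nat.sub_add_cancel hN1]
      exact hzero
    have h1 : (C.ρ a : AddMonoid.End V) (C.π z) = C.π z := sub_eq_zero.1 h0
    conv_lhs => rw [← h1]
    rw [← Function.comp_apply (f := (C.ρ a⁻¹ : AddMonoid.End V)), ← AddMonoid.End.coe_mul,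
      map_inv, Units.inv_mul, AddMonoid.End.coe_one, id_eq]
  have hsign : ∀ j, ((-(C.ρ a⁻¹ : AddMonoid.End V)) ^ j) (C.π z) =
      if Even j then C.π z else -C.π z := by
    intro j
    induction j with
    | zero => simp
    | succ j ih =>
      rw [pow_succ', AddMonoid.End.coe_mul, Function.comp_apply, ih]
      show -((C.ρ a⁻¹ : AddMonoid.End V) (if Even j then C.π z else -C.π z)) = _
      by_cases hj : Even j
      · rw [if_pos hj, if_neg (by simpa [Nat.even_add_one] using hj), hfix]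
      · rw [if_neg hj, if_pos (by simpa [Nat.even_add_one] using hj), map_neg, hfix, neg_neg]
  have hzE : ⁅x, z⁆ ∈ C.E := C.commQ x hx z (C.B_le hzB)
  have key : ⁅a, ⁅x, z⁆⁆ = 1 := by
    have h1 := hpair.comm_values (N - 1) hx hx
    rw [C.comm_congr hx (C.iterC_mem_B _ _ hx) hzB (by
      rw [C.π_iterC _ _ hx, C.dEnd_inv_pow, AddMonoid.End.coe_mul, Function.comp_apply,
        ← C.π_iterC _ _ hx, hsign, if_pos hN]), ← hz, ← commutatorElement_inv x z] at h1
    have h2 : ⁅a, ⁅x, z⁆⁻¹⁆ = ⁅a, ⁅x, z⁆⁆⁻¹ := by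
      refine eq_inv_of_mul_eq_one_left ?_
      rw [← hpair.mul_comm_map (C.E.inv_mem hzE) hzE, inv_mul_cancel, commutatorElement_one_right]
    rw [h2, inv_eq_iff_mul_eq_one] at h1
    have hmem : ⁅a, ⁅x, z⁆⁆ ∈ C.P := C.Q_le (C.B_le (C.E_le (C.comm_mem_E a hzE)))
    obtain ⟨n, hn⟩ := C.p_group_pow hmem
    have h3 : orderOf ⁅a, ⁅x, z⁆⁆ ∣ Nat.gcd 2 (p ^ n) :=
      Nat.dvd_gcd (orderOf_dvd_of_pow_eq_one (by rw [pow_two, h1])) (orderOf_dvd_of_pow_eq_one hn)
    rw [Nat.Coprime.pow_right n ((Nat.coprime_primes Nat.prime_two hpp).2 (by omega)),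
      Nat.dvd_one, orderOf_eq_one_iff] at h3
    exact h3
  have hkm : k + m' = N - 1 := by omega
  have hπu : C.π (iterC a⁻¹ k (iterC a m' x)) = if Even k then C.π z else -C.π z := by
    rw [hπ, hkm, ← C.π_iterC _ _ hx, ← hz, hsign]
  by_cases hk : Even k
  · rw [if_pos hk] at hπu
    rw [C.comm_congr hx (C.iterC_mem_B _ _ hv) hzB hπu, key]
  · rw [if_neg hk, ← C.π_inv hzB] at hπu
    rw [C.comm_congr hx (C.iterC_mem_B _ _ hv) (C.B.inv_mem hzB) hπu, C.comm_inv_right hx hzB]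
    have h2 := hpair.mul_comm_map (C.E.inv_mem hzE) hzE
    rw [inv_mul_cancel, commutatorElement_one_right, key, mul_one] at h2
    exact h2.symm

/-- A chain gives a lower bound on an index. -/
theorem pow_le_relIndex [Finite G] [Fact p.Prime] {N : Subgroup G} (hN : IsPGroup p N)
    (L : ℕ → Subgroup G) (hle : ∀ i, L i ≤ L (i + 1)) (n : ℕ)
    (hstrict : ∀ i < n, ∃ y ∈ N, y ∈ L (i + 1) ∧ y ∉ L i) : p ^ n ≤ (L 0).relIndex N := by
  have key : ∀ i ≤ n, p ^ i ≤ (L 0 ⊓ N).relIndex (L i ⊓ N) := by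
    intro i hi
    induction i with
    | zero => simp
    | succ i ih =>
      have h0 : L 0 ⊓ N ≤ L i ⊓ N := by
        refine inf_le_inf_right _ ?_
        exact (monotone_nat_of_le_succ hle) (Nat.zero_le i)
      rw [← relIndex_mul_relIndex _ _ _ h0 (inf_le_inf_right _ (hle i)), pow_succ]
      refine Nat.mul_le_mul (ih (by omega)) ?_
      obtain ⟨y, hyN, hy, hy'⟩ := hstrict i (by omega)
      have hne : (L i ⊓ N).relIndex (L (i + 1) ⊓ N) ≠ 1 := fun h =>
        hy' (relIndex_eq_one.1 h ⟨hy, hyN⟩).1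
      obtain ⟨j, hj⟩ := (hN.to_le (inf_le_right : L (i + 1) ⊓ N ≤ N)).index
        ((L i ⊓ N).subgroupOf (L (i + 1) ⊓ N))
      rw [relIndex] at hne ⊢
      rw [hj] at hne ⊢
      exact Nat.le_self_pow (fun h => hne (by rw [h, pow_zero])) p
  refine (key n le_rfl).trans ?_
  rw [← inf_relIndex_right (L 0) N]
  exact relIndex_le_of_le_right inf_le_right (relIndex_ne_zero' _ _)

theorem relIndex_le_of_le_sup {H D : Subgroup G} {a : G} (hHD : H ≤ D) (haD : a ∈ D)
    (hcomm : ∀ h ∈ H, Commute h a) (hgen : D ≤ H ⊔ zpowers a) {N : ℕ} (hN : a ^ N ∈ H)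
    (hN0 : N ≠ 0) : H.relIndex D ≤ N := by
  haveI : NeZero N := ⟨hN0⟩
  let φ : Fin N → ↥D ⧸ H.subgroupOf D := fun i => ((⟨a, haD⟩ : D) ^ (i : ℕ) : D)
  have hφ : Function.Surjective φ := by
    intro q
    obtain ⟨⟨d, hd⟩, rfl⟩ := QuotientGroup.mk_surjective q
    have hcH : zpowers a ≤ normalizer (H : Set G) := by
      refine le_trans ?_ (centralizer_le_normalizer _)
      exact zpowers_le.2 (mem_centralizer_iff.2 fun h hh => hcomm h hh)
    have hd' : d ∈ ((H ⊔ zpowers a : Subgroup G) : Set G) := hgen hd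
    rw [coe_mul_of_right_le_normalizer_left H (zpowers a) hcH] at hd'
    obtain ⟨h, hh, _, ⟨i, rfl⟩, rfl⟩ := hd'
    have hpos : (0 : ℤ) < N := by exact_mod_cast Nat.pos_of_ne_zero hN0
    refine ⟨⟨(i % N).toNat, by
      have := Int.emod_lt_of_pos i hpos
      have := Int.emod_nonneg i hpos.ne'
      omega⟩, QuotientGroup.eq.2 (mem_subgroupOf.2 ?_)⟩
    show ((⟨a, haD⟩ : D) ^ _ : D).1⁻¹ * (h * a ^ i) ∈ H
    rw [SubgroupClass.coe_pow, ← mul_assoc, ← ((hcomm h hh).pow_right _).inv_right.eq, mul_assoc]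
    refine mul_mem hh ?_
    rw [← zpow_natCast, ← zpow_neg, ← zpow_add, Int.toNat_of_nonneg (Int.emod_nonneg i hpos.ne'),
      show -(i % (N : ℤ)) + i = (N : ℤ) * (i / N) by
        have := Int.mul_ediv_add_emod i N; omega, zpow_mul, zpow_natCast]
    exact zpow_mem hN _
  have := Nat.card_le_card_of_surjective φ hφ
  rwa [Nat.card_fin, ← index_eq_card] at this

/-- The gain at every level. -/
theorem exists_gain [Finite G] [Fact p.Prime] (hp : 5 ≤ p) (C : Config p G V) {A : Subgroup G}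
    (hA : ∀ x ∈ A, ∀ y ∈ A, Commute x y) (hAP : A ≤ C.P)
    (hquad : ∀ a ∈ A, ∀ e ∈ C.E, ⁅a, ⁅a, e⁆⁆ = 1) :
    ∀ D : Subgroup G, A ⊓ C.Q ≤ D → D ≤ A → ∃ U : Subgroup G, U ≤ C.B ∧
      U ≤ centralizer (U : Set G) ∧ U ≤ centralizer ((A ⊓ C.Q : Subgroup G) : Set G) ∧
      U ≤ centralizer (C.fixedMod D : Set G) ∧
      (A ⊓ C.Q).relIndex D ≤ (C.fixedMod D).relIndex U ∧
      (¬ D ≤ C.Q → p * (A ⊓ C.Q).relIndex D ≤ (C.fixedMod D).relIndex U) := by
  have hpp : p.Prime := Fact.out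
  intro D
  induction hn : Nat.card D using Nat.strong_induction_on generalizing D with
  | _ n IH =>
  intro hID hDA
  subst hn
  by_cases hDQ : D ≤ C.Q
  · refine ⟨⊥, bot_le, bot_le, bot_le, bot_le, ?_, fun h => absurd hDQ h⟩
    rw [relIndex_bot_right, le_antisymm hID (le_inf hDA hDQ), relIndex_self]
  obtain ⟨H, a, f, x, hHD, hIH, haD, hgen, haN, hx, hz⟩ := C.exists_norm hA hAP hDA hID hDQ
  obtain ⟨U, hUB, hUU, hUI, hUF, hUidx, -⟩ := IH (Nat.card H)
    (Set.Finite.card_lt_card (Set.toFinite _) hHD) H rfl hIH (hHD.le.trans hDA)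
  have haA := hDA haD
  set N := p ^ (f + 1) with hNdef
  have hNb : 2 * f + 5 ≤ N := bound_pow hp f
  have hNeven : Even (N - 1) := by
    rw [Nat.even_sub (by omega)]
    simp only [Nat.not_even_one, iff_false, Nat.not_even_iff_odd]
    exact (hpp.odd_of_ne_two (by omega)).pow
  have hzero : (C.dEnd a ^ N) (C.π x) = 0 := by
    rw [hNdef, dEnd, (End.sum_pow_eq_and_pow_sub_one C.p_smul _ _).2, ← Units.val_pow_eq_pow_val,
      ← map_pow]
    exact hx.2 _ haN
  set y : ℕ → G := fun j => iterC a (N - 2 - j) x with hy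
  have hqa := hquad a haA
  have hHa : ∀ h ∈ H, Commute h a := fun h hh => hA h (hDA (hHD.le hh)) a haA
  -- the new elements are fixed by `H` modulo `E`
  have hyF : ∀ m, iterC a m x ∈ C.fixedMod H := by
    intro m
    refine ⟨C.iterC_mem_B a m hx.1, fun h hh => ?_⟩
    rw [C.π_iterC _ _ hx.1, ← Function.comp_apply (f := C.dEnd h), ← AddMonoid.End.coe_mul]
    have : Commute (C.dEnd h) (C.dEnd a ^ m) := by
      refine Commute.pow_right ?_ m
      refine (Commute.sub_right (Commute.sub_left ?_ (Commute.one_left _))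
        ((Commute.one_right _).sub_left (Commute.one_right _)))
      exact ((hHa h hh).map C.ρ).units_val
    rw [this.eq, AddMonoid.End.coe_mul, Function.comp_apply, hx.2 h hh, map_zero]
  set T : Set G := y '' Set.Iic (f + 1) with hT
  set W := closure T with hW
  have hTmem : ∀ j ≤ f + 1, y j ∈ W := fun j hj => subset_closure ⟨j, hj, rfl⟩
  have hWF : W ≤ C.fixedMod H := (closure_le _).2 (by rintro _ ⟨j, -, rfl⟩; exact hyF _)
  have hWB : W ≤ C.B := fun w hw => (hWF hw).1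
  have hlow : ∀ j ≤ f + 1, 2 ≤ N - 2 - j := fun j hj => by omega
  -- commutation
  have hWW : W ≤ centralizer (W : Set G) := by
    rw [hW, centralizer_closure, closure_le]
    rintro _ ⟨i, hi, rfl⟩
    refine mem_centralizer_iff.2 ?_
    rintro _ ⟨j, hj, rfl⟩
    rcases eq_or_ne i j with rfl | hij
    · rfl
    have hi' : i ≤ f + 1 := hi
    have hj' : j ≤ f + 1 := hj
    exact (C.commute_powers hp hqa hx.1 hNeven hzero (by omega) (by omega) (by omega)).eq
  have hWI : W ≤ centralizer ((A ⊓ C.Q : Subgroup G) : Set G) := by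
    rw [hW, closure_le]
    rintro _ ⟨j, hj, rfl⟩
    refine mem_centralizer_iff.2 fun i hi => ?_
    have hfixi : ∀ i ∈ A ⊓ C.Q, ⁅a⁻¹, i⁆ = 1 := fun i hi =>
      commutatorElement_eq_one_iff_commute.2 ((hA a haA i hi.1).inv_left)
    have hit : ∀ m, iterC a⁻¹ (m + 1) i = 1 := by
      intro m
      induction m with
      | zero => exact hfixi i hi
      | succ m ih => rw [iterC_succ, ih, commutatorElement_one_right]
    obtain ⟨k, hk⟩ := Nat.exists_eq_add_of_le (hlow j hj)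
    have h := (C.pairingI hqa inf_le_right hfixi).vanish_of_lt (k + 1) hx.1 hi
      (fun q _ => by rw [hit k, commutatorElement_one_right])
      (fun q _ => by rw [hit (k + 1), commutatorElement_one_right])
    rw [show y j = iterC a (k + 1 + 1) x by simp only [hy, hk, Nat.add_comm 2 k]]
    exact (commutatorElement_eq_one_iff_commute.1 h).eq.symm
  have hWFD : W ≤ centralizer (C.fixedMod D : Set G) := by
    rw [hW, closure_le]
    rintro _ ⟨j, hj, rfl⟩
    refine mem_centralizer_iff.2 fun v hv => ?_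
    obtain ⟨k, hk⟩ := Nat.exists_eq_add_of_le (hlow j hj)
    have hit : ∀ m, iterC a⁻¹ (m + 1) v ∈ C.E := by
      intro m
      induction m with
      | zero => exact C.comm_mem_E_of_fixedMod hv (D.inv_mem haD)
      | succ m ih => rw [iterC_succ]; exact C.comm_mem_E _ ih
    have h := (C.pairingB hqa).vanish_of_lt (k + 1) hx.1 hv.1
      (fun q hq => C.comm_eq_one_of_mem_E hq (hit k))
      (fun q hq => C.comm_eq_one_of_mem_E hq (hit (k + 1)))
    rw [show y j = iterC a (k + 1 + 1) x by simp only [hy, hk, Nat.add_comm 2 k]]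
    exact (commutatorElement_eq_one_iff_commute.1 h).eq.symm
  have hUW : U ≤ centralizer (W : Set G) :=
    hUF.trans (centralizer_le (SetLike.coe_subset_coe.2 hWF))
  refine ⟨U ⊔ W, sup_le hUB hWB, ?_, sup_le hUI hWI, ?_, ?_⟩
  · exact sup_le (le_centralizer_iff.1 (sup_le hUU (le_centralizer_iff.1 hUW)))
      (le_centralizer_iff.1 (sup_le hUW hWW))
  · exact sup_le (hUF.trans (centralizer_le (SetLike.coe_subset_coe.2 (C.fixedMod_anti hHD.le)))) hWFD
  -- the chain
  let L : ℕ → Subgroup G := fun i =>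
    { carrier := {v | v ∈ C.B ∧ (C.dEnd a ^ (i + 1)) (C.π v) = 0}
      one_mem' := ⟨C.B.one_mem, by rw [C.π_one, map_zero]⟩
      mul_mem' := fun {u v} hu hv => ⟨C.B.mul_mem hu.1 hv.1, by
        rw [C.π_mul u hu.1 v hv.1, map_add, hu.2, hv.2, add_zero]⟩
      inv_mem' := fun {u} hu => ⟨C.B.inv_mem hu.1, by rw [C.π_inv hu.1, map_neg, hu.2, neg_zero]⟩ }
  have hWidx : p ^ (f + 2) ≤ (C.fixedMod D).relIndex W := by
    refine (pow_le_relIndex (L := L) (N := W) (C.isPGroupP.to_le (hWB.trans (C.B_le.trans C.Q_le)))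
      ?_ (f + 2) ?_).trans ?_
    · intro i v hv
      refine ⟨hv.1, ?_⟩
      rw [pow_succ' (C.dEnd a) (i + 1), AddMonoid.End.coe_mul, Function.comp_apply, hv.2, map_zero]
    · intro i hi
      refine ⟨y i, hTmem i (by omega), ⟨C.iterC_mem_B _ _ hx.1, ?_⟩, fun h => hz ?_⟩
      · rw [C.π_iterC _ _ hx.1, ← Function.comp_apply (f := ⇑(C.dEnd a ^ (i + 1 + 1))),
          ← AddMonoid.End.coe_mul, ← pow_add, show i + 1 + 1 + (N - 2 - i) = N by omega]
        exact hzero
      · have h' := h.2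
        rw [C.π_iterC _ _ hx.1, ← Function.comp_apply (f := ⇑(C.dEnd a ^ (i + 1))),
          ← AddMonoid.End.coe_mul, ← pow_add, show i + 1 + (N - 2 - i) = N - 1 by omega] at h'
        exact h'
    · exact relIndex_le_of_le_left (fun v hv => ⟨hv.1, by
        rw [zero_add, pow_one]; exact hv.2 a haD⟩) (relIndex_ne_zero' _ _)
  -- the index
  have hmono : C.fixedMod D ≤ C.fixedMod H := C.fixedMod_anti hHD.le
  have hidx : (C.fixedMod D).relIndex W * (C.fixedMod H).relIndex U ≤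
      (C.fixedMod D).relIndex (U ⊔ W) := by
    rw [← inf_relIndex_right (C.fixedMod D) (U ⊔ W),
      ← relIndex_mul_relIndex _ _ _ (inf_le_inf_right (U ⊔ W) hmono) inf_le_right,
      inf_relIndex_right (C.fixedMod H) (U ⊔ W)]
    refine Nat.mul_le_mul ?_ (relIndex_le_of_le_right le_sup_left (relIndex_ne_zero' _ _))
    calc (C.fixedMod D).relIndex W ≤ (C.fixedMod D).relIndex (C.fixedMod H ⊓ (U ⊔ W)) :=
          relIndex_le_of_le_right (le_inf hWF le_sup_right) (relIndex_ne_zero' _ _)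
      _ ≤ _ := relIndex_le_of_le_left inf_le_left (relIndex_ne_zero' _ _)
  have hD : H.relIndex D ≤ N :=
    relIndex_le_of_le_sup hHD.le haD hHa hgen haN (pow_ne_zero _ hpp.ne_zero)
  have main : p * (A ⊓ C.Q).relIndex D ≤ (C.fixedMod D).relIndex (U ⊔ W) := by
    refine le_trans ?_ hidx
    rw [← relIndex_mul_relIndex _ _ _ hIH hHD.le]
    calc p * ((A ⊓ C.Q).relIndex H * H.relIndex D) ≤ p * ((C.fixedMod H).relIndex U * N) :=
          Nat.mul_le_mul_left _ (Nat.mul_le_mul hUidx hD)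
      _ = p ^ (f + 2) * (C.fixedMod H).relIndex U := by rw [hNdef]; ring
      _ ≤ _ := Nat.mul_le_mul_right _ hWidx
  exact ⟨le_trans (Nat.le_mul_of_pos_left _ hpp.pos) main, fun _ => main⟩

end Config

end Cfsg.Agent.Lib.OffenderJ
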