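import Cfsg.Agent.Lib.OffenderJ.Levels
import Cfsg.Agent.Lib.PGroup.Quadratic
import Cfsg.Agent.Lib.ZJ.Family

/-!
# Abelian subgroups of largest order lie in `Q`
-/

set_option autoImplicit false

namespace Cfsg.Agent.Lib.OffenderJ

open Subgroup
open scoped commutatorElement

namespace Config

variable {p : ℕ} {G : Type*} [Group G] {V : Type*} [AddCommGroup V] (C : Config p G V)

theorem quad_of_normalized {A : Subgroup G} (hA : ∀ x ∈ A, ∀ y ∈ A, Commute x y) {a e : G}
    (ha : a ∈ A) (he : e ∈ normalizer (A : Set G)) : ⁅a, e⁆ ∈ A ∧ ⁅a, ⁅a, e⁆⁆ = 1 := by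
  have h : ⁅a, e⁆ ∈ A := by
    rw [commutatorElement_def, mul_assoc a e, mul_assoc]
    exact A.mul_mem ha ((mem_normalizer_iff.1 he _).1 (A.inv_mem ha))
  exact ⟨h, commutatorElement_eq_one_iff_commute.2 (hA a ha _ h)⟩

/-- The case of a member of the same order inside `Q`. -/
theorem false_of_member [Finite G] [Fact p.Prime] (hp : 5 ≤ p) (C : Config p G V)
    {A A' : Subgroup G} (hA : ∀ x ∈ A, ∀ y ∈ A, Commute x y) (hAP : A ≤ C.P) (hAQ : ¬ A ≤ C.Q)
    (hmax : ∀ M : Subgroup G, M ≤ C.P → M ≤ centralizer (M : Set G) → Nat.card M ≤ Nat.card A)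
    (hA' : ∀ x ∈ A', ∀ y ∈ A', Commute x y) (hA'Q : A' ≤ C.Q) (hcard : Nat.card A ≤ Nat.card A')
    (hA'N : A' ≤ normalizer (A : Set G)) (hAN : A ≤ normalizer (A' : Set G))
    (hsub : A' ≤ (A ⊓ A') ⊔ C.E) : False := by
  classical
  haveI := C.normalE
  obtain ⟨H, a, f, x, -, -, haA, -, -, hxF, hz⟩ := C.exists_norm hA hAP le_rfl inf_le_left hAQ
  have hxB := hxF.1
  have hN : 5 ≤ p ^ (f + 1) := hp.trans (Nat.le_self_pow (Nat.succ_ne_zero f) p)
  have h4 : (C.dEnd a ^ 4) (C.π x) ≠ 0 := by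
    intro h
    apply hz
    rw [show p ^ (f + 1) - 1 = (p ^ (f + 1) - 5) + 4 by omega, pow_add, AddMonoid.End.coe_mul,
      Function.comp_apply, h, map_zero]
  set C1 := C.E ⊓ A' with hC1
  set CE : Subgroup G → Subgroup G := fun X => C.E ⊓ centralizer (X : Set G) with hCE
  set T := Nat.card A * Nat.card C1 with hTdef
  have hC1cent : ∀ y ∈ A', ∀ c ∈ C1, Commute y c := fun y hy c hc => hA' y hy c hc.2
  have hC1CE : ∀ X, X ≤ A' → C1 ≤ CE X := fun X hX c hc =>
    ⟨hc.1, mem_centralizer_iff.2 fun y hy => (hC1cent y (hX hy) c hc).eq⟩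
  -- the abelian subgroup attached to `X`
  have hMcomm : ∀ X, X ≤ A' → X ⊔ CE X ≤ centralizer ((X ⊔ CE X : Subgroup G) : Set G) := by
    intro X hX
    have hXX : X ≤ centralizer (X : Set G) := fun y hy =>
      mem_centralizer_iff.2 fun z hz => (hA' z (hX hz) y (hX hy)).eq
    have hCC : CE X ≤ centralizer (CE X : Set G) := fun y hy =>
      mem_centralizer_iff.2 fun z hz => (C.commute_E hz.1 hy.1).eq
    have hCX : CE X ≤ centralizer (X : Set G) := inf_le_right
    exact sup_le (le_centralizer_iff.1 (sup_le hXX hCX))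
      (le_centralizer_iff.1 (sup_le (le_centralizer_iff.1 hCX) hCC))
  have hMQ : ∀ X, X ≤ A' → X ⊔ CE X ≤ C.Q := fun X hX =>
    sup_le (hX.trans hA'Q) (inf_le_left.trans (C.E_le.trans C.B_le))
  have hupper : ∀ X, X ≤ A' → Nat.card X * Nat.card (CE X) ≤ T := by
    intro X hX
    refine (Quadratic.card_mul_card_le X (CE X)).trans (Nat.mul_le_mul ?_ (card_le_of_le ?_))
    · exact hmax _ ((hMQ X hX).trans C.Q_le) (hMcomm X hX)
    · exact fun y hy => ⟨hy.2.1, hX hy.1⟩
  let Good : Subgroup G → Prop := fun X =>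
    C1 ≤ X ∧ X ≤ A' ∧ T ≤ Nat.card X * Nat.card (CE X)
  have hGoodA : Good A' := ⟨inf_le_right, le_rfl,
    Nat.mul_le_mul hcard (card_le_of_le (hC1CE A' le_rfl))⟩
  have hinf : ∀ X Y, Good X → Good Y → Good (X ⊓ Y) := by
    rintro X Y ⟨hX1, hX2, hX3⟩ ⟨hY1, hY2, hY3⟩
    refine ⟨le_inf hX1 hY1, inf_le_left.trans hX2, ?_⟩
    have h1 := Quadratic.card_mul_card_le X Y
    have h2 := Quadratic.card_mul_card_le (CE X) (CE Y)
    have h3 : CE X ⊔ CE Y ≤ CE (X ⊓ Y) := sup_le
      (inf_le_inf_left _ (centralizer_le (SetLike.coe_subset_coe.2 inf_le_left)))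
      (inf_le_inf_left _ (centralizer_le (SetLike.coe_subset_coe.2 inf_le_right)))
    have h4 : CE X ⊓ CE Y ≤ CE (X ⊔ Y) := fun y hy =>
      ⟨hy.1.1, le_centralizer_iff.1 (sup_le (le_centralizer_iff.1 (zpowers_le.2 hy.1.2))
        (le_centralizer_iff.1 (zpowers_le.2 hy.2.2))) (mem_zpowers y)⟩
    have h5 := hupper (X ⊔ Y) (sup_le hX2 hY2)
    have h6 : T * T ≤ Nat.card ↥(X ⊓ Y) * Nat.card ↥(CE (X ⊓ Y)) * T :=
      calc T * T ≤ (Nat.card X * Nat.card (CE X)) * (Nat.card Y * Nat.card (CE Y)) :=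
            Nat.mul_le_mul hX3 hY3
        _ = (Nat.card X * Nat.card Y) * (Nat.card (CE X) * Nat.card (CE Y)) := by ring
        _ ≤ (Nat.card ↥(X ⊔ Y) * Nat.card ↥(X ⊓ Y)) *
              (Nat.card ↥(CE X ⊔ CE Y) * Nat.card ↥(CE X ⊓ CE Y)) := Nat.mul_le_mul h1 h2
        _ ≤ (Nat.card ↥(X ⊔ Y) * Nat.card ↥(X ⊓ Y)) *
              (Nat.card ↥(CE (X ⊓ Y)) * Nat.card ↥(CE (X ⊔ Y))) :=
            Nat.mul_le_mul_left _ (Nat.mul_le_mul (card_le_of_le h3) (card_le_of_le h4))
        _ = Nat.card ↥(X ⊓ Y) * Nat.card ↥(CE (X ⊓ Y)) *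
              (Nat.card ↥(X ⊔ Y) * Nat.card ↥(CE (X ⊔ Y))) := by ring
        _ ≤ _ := Nat.mul_le_mul_left _ h5
    exact Nat.le_of_mul_le_mul_right h6 (Nat.mul_pos Nat.card_pos Nat.card_pos)
  obtain ⟨X0, hX0, hX0min⟩ := Set.exists_min_image {X | Good X} (fun X => Nat.card X)
    (Set.toFinite _) ⟨A', hGoodA⟩
  have hleast : ∀ X, Good X → X0 ≤ X := fun X hX =>
    inf_eq_left.1 (eq_of_le_of_card_ge inf_le_left (hX0min _ (hinf X0 X hX0 hX)))
  -- conjugation by `a` fixes `X0`
  have haC1 : ∀ c ∈ C1, ⁅a, c⁆ ∈ C1 := fun c hc => ⟨C.comm_mem_E a hc.1, by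
    rw [commutatorElement_def]
    exact A'.mul_mem ((mem_normalizer_iff.1 (hAN haA) c).1 hc.2) (A'.inv_mem hc.2)⟩
  have hX0a : ∀ v ∈ X0, a⁻¹ * v * a ∈ X0 := by
    have hGoodmap : Good (X0.map (MulAut.conj a).toMonoidHom) := by
      obtain ⟨h1, h2, h3⟩ := hX0
      refine ⟨?_, ?_, h3.trans (le_of_eq ?_)⟩
      · intro c hc
        refine ⟨a⁻¹ * c * a, h1 ⟨?_, ?_⟩, by simp [mul_assoc]⟩
        · simpa using C.normalE.conj_mem c hc.1 a⁻¹
        · exact (mem_normalizer_iff''.1 (hAN haA) c).1 hc.2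
      · rintro _ ⟨y, hy, rfl⟩
        exact (mem_normalizer_iff.1 (hAN haA) y).1 (h2 hy)
      · have e : CE (X0.map (MulAut.conj a).toMonoidHom) = (CE X0).map (MulAut.conj a).toMonoidHom := by
          ext y
          rw [Subgroup.mem_map_equiv]
          refine and_congr ?_ ?_
          · exact ⟨fun h => by simpa using C.normalE.conj_mem y h a⁻¹,
              fun h => by simpa [mul_assoc] using C.normalE.conj_mem _ h a⟩
          · simp only [SetLike.mem_coe, mem_centralizer_iff]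
            constructor
            · intro h z hz
              have := h _ ⟨z, hz, rfl⟩
              simp [mul_assoc] at this ⊢
              have h' := congrArg (fun w => a⁻¹ * w * a) this
              simpa [mul_assoc] using h'
            · rintro h _ ⟨z, hz, rfl⟩
              have := congrArg (fun w => a * w * a⁻¹) (h z hz)
              simpa [mul_assoc] using this
        rw [e, card_map_of_injective (MulAut.conj a).injective,
          card_map_of_injective (MulAut.conj a).injective]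
    intro v hv
    obtain ⟨w, hw, hwv⟩ := hleast _ hGoodmap hv
    rw [← hwv]
    simpa [mul_assoc] using hw
  -- the values lie in `C1`
  have hval : ∀ q ∈ C.B, ∀ v ∈ X0, ⁅q, v⁆ ∈ C1 := by
    intro q hq
    have hE : ∀ y ∈ A', ⁅q, y⁆ ∈ C.E := fun y hy => C.commQ q hq y (hA'Q hy)
    have hmul : ∀ y z : G, ⁅q, y * z⁆ = ⁅q, y⁆ * (y * ⁅q, z⁆ * y⁻¹) := fun y z => by
      simp only [commutatorElement_def]; group
    let X : Subgroup G :=
      { carrier := {y | y ∈ A' ∧ ⁅q, y⁆ ∈ C1}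
        one_mem' := ⟨A'.one_mem, by rw [commutatorElement_one_right]; exact C1.one_mem⟩
        mul_mem' := by
          rintro y z ⟨hy, hy1⟩ ⟨hz, hz1⟩
          refine ⟨A'.mul_mem hy hz, ?_⟩
          rw [hmul, (hC1cent y hy _ hz1).eq, mul_inv_cancel_right]
          exact C1.mul_mem hy1 hz1
        inv_mem' := by
          rintro y ⟨hy, hy1⟩
          refine ⟨A'.inv_mem hy, ?_⟩
          have e : ⁅q, y⁻¹⁆ = y⁻¹ * ⁅q, y⁆⁻¹ * y := by simp only [commutatorElement_def]; group
          rw [e, ((hC1cent y hy _ hy1).inv_left.inv_right).eq, inv_mul_cancel_right]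
          exact C1.inv_mem hy1 }
    have hXA : X ≤ A' := fun y hy => hy.1
    have hvalCE : ∀ y ∈ A', ⁅q, y⁆ ∈ CE X := by
      intro y hy
      refine ⟨hE y hy, mem_centralizer_iff.2 fun z hz => ?_⟩
      have h1 : ⁅q, z⁆ * (z * ⁅q, y⁆ * z⁻¹) = ⁅q, y⁆ * (y * ⁅q, z⁆ * y⁻¹) := by
        rw [← hmul, ← hmul, (hA' z hz.1 y hy).eq]
      rw [(hC1cent y hy _ hz.2).eq, mul_inv_cancel_right,
        (C.commute_E (hE y hy) (hE z hz.1)).eq] at h1
      exact mul_inv_eq_iff_eq_mul.1 (mul_left_cancel h1)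
    have hGoodX : Good X := by
      refine ⟨fun c hc => ⟨hc.2, ?_⟩, hXA, ?_⟩
      · rw [C.comm_eq_one_of_mem_E hq hc.1]; exact C1.one_mem
      -- cosets of `X` give distinct cosets of `C1`
      let φ : ↥A' ⧸ X.subgroupOf A' → ↥(CE X) ⧸ C1.subgroupOf (CE X) := fun z =>
        ((⟨⁅q, (z.out : G)⁆, hvalCE _ z.out.2⟩ : CE X) : ↥(CE X) ⧸ C1.subgroupOf (CE X))
      have hφ : Function.Injective φ := by
        intro z z' h
        have h' : ⁅q, (z.out : G)⁆⁻¹ * ⁅q, (z'.out : G)⁆ ∈ C1 := mem_subgroupOf.1 (QuotientGroup.eq.1 h)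
        rw [← z.out_eq, ← z'.out_eq]
        refine QuotientGroup.eq.2 (mem_subgroupOf.2 ?_)
        set y : G := (z.out : G)
        set w : G := y⁻¹ * (z'.out : G) with hw
        have hy : y ∈ A' := z.out.2
        have e : (z'.out : G) = y * w := (mul_inv_cancel_left _ _).symm
        rw [e, hmul, inv_mul_cancel_left] at h'
        refine ⟨A'.mul_mem (A'.inv_mem hy) z'.out.2, ?_⟩
        have := hC1cent y hy _ h'
        have e2 : ⁅q, w⁆ = y⁻¹ * (y * ⁅q, w⁆ * y⁻¹) * y := by group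
        show ⁅q, ((z.out)⁻¹ * z'.out : A').1⁆ ∈ C1
        rw [Subgroup.coe_mul, Subgroup.coe_inv, ← hw, e2, this.inv_left.eq, inv_mul_cancel_right]
        exact h'
      have h1 := Nat.card_le_card_of_injective φ hφ
      have e1 := card_eq_card_quotient_mul_card_subgroup (X.subgroupOf A')
      have e2 := card_eq_card_quotient_mul_card_subgroup (C1.subgroupOf (CE X))
      rw [Nat.card_congr (subgroupOfEquivOfLe hXA).toEquiv] at e1
      rw [Nat.card_congr (subgroupOfEquivOfLe (hC1CE X hXA)).toEquiv] at e2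
      calc T ≤ Nat.card A' * Nat.card C1 := Nat.mul_le_mul_right _ hcard
        _ = Nat.card X * (Nat.card (↥A' ⧸ X.subgroupOf A') * Nat.card C1) := by rw [e1]; ring
        _ ≤ Nat.card X * (Nat.card (↥(CE X) ⧸ C1.subgroupOf (CE X)) * Nat.card C1) :=
            Nat.mul_le_mul_left _ (Nat.mul_le_mul_right _ h1)
        _ = _ := by rw [← e2]
    intro v hv
    exact (hleast X hGoodX hv).2
  obtain ⟨hX01, hX02, hX03⟩ := hX0
  have hpair : Pairing C.B X0 C1 a :=
    { conj_B := fun q hq => C.conj_mem_B a hq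
      conj_X := fun v hv => by
        rw [commutatorElement_def, inv_inv]
        exact X0.mul_mem (hX0a v hv) (X0.inv_mem hv)
      conj_E := haC1
      comm_E := fun e he e' he' => C.commute_E he.1 he'.1
      comm_B := fun q hq e he => C.centralE q hq e he.1
      values := hval
      comm_X := fun v hv e he => hC1cent _ (hX02 (by
        rw [commutatorElement_def, inv_inv]
        exact X0.mul_mem (hX0a v hv) (X0.inv_mem hv))) e he
      quad := fun e he => (quad_of_normalized hA haA (hA'N he.2)).2 }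
  set u := iterC a 3 x with hu
  have huB : u ∈ C.B := C.iterC_mem_B a 3 hxB
  have huX : ∀ v ∈ X0, Commute u v := by
    intro v hv
    rw [← commutatorElement_eq_one_iff_commute]
    have h2 : iterC a⁻¹ 2 v = 1 := by
      rw [iterC_succ, iterC_succ, iterC_zero]
      exact (quad_of_normalized hA (A.inv_mem haA) (hA'N (hX02 hv))).2
    exact hpair.vanish_of_lt 2 hxB hv (fun q _ => by rw [h2, commutatorElement_one_right])
      (fun q _ => by rw [iterC_succ, h2, commutatorElement_one_right, commutatorElement_one_right])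
  set M := X0 ⊔ CE X0 with hM
  have huM : zpowers u ≤ centralizer (M : Set G) := by
    refine le_centralizer_iff.1 (sup_le ?_ ?_)
    · refine le_centralizer_iff.1 (zpowers_le.2 (mem_centralizer_iff.2 fun v hv => ?_))
      exact (huX v hv).eq.symm
    · refine le_centralizer_iff.1 (zpowers_le.2 (mem_centralizer_iff.2 fun e he => ?_))
      exact (C.centralE u huB e he.1).eq.symm
  have hMM := hMcomm X0 hX02
  have hMu : M ⊔ zpowers u ≤ centralizer ((M ⊔ zpowers u : Subgroup G) : Set G) := by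
    refine sup_le (le_centralizer_iff.1 (sup_le hMM huM)) (le_centralizer_iff.1 (sup_le ?_ ?_))
    · exact le_centralizer_iff.1 huM
    · exact fun y hy => mem_centralizer_iff.2 fun z hz => by
        obtain ⟨i, rfl⟩ := hy
        obtain ⟨j, rfl⟩ := hz
        exact ((Commute.refl u).zpow_zpow j i).eq
  have hMge : Nat.card A ≤ Nat.card M := by
    refine Nat.le_of_mul_le_mul_right ((hX03.trans (Quadratic.card_mul_card_le X0 (CE X0))).trans
      (Nat.mul_le_mul_left _ (card_le_of_le fun y hy => ?_))) (Nat.card_pos (α := C1))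
    exact ⟨hy.2.1, hX02 hy.1⟩
  have heq : M = M ⊔ zpowers u := eq_of_le_of_card_ge le_sup_left
    ((hmax _ (sup_le ((hMQ X0 hX02).trans C.Q_le)
      (zpowers_le.2 (C.Q_le (C.B_le huB)))) hMu).trans hMge)
  have humem : u ∈ (A ⊓ A') ⊔ C.E :=
    (sup_le (hX02.trans hsub) (inf_le_left.trans le_sup_right) : M ≤ _)
      (by show u ∈ M; rw [heq]; exact mem_sup_right (mem_zpowers u))
  obtain ⟨i, hi, e, he, hie⟩ := mem_sup_of_normal_right.1 humem
  apply h4
  have hiB : i ∈ C.B := by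
    rw [show i = u * e⁻¹ by rw [← hie, mul_inv_cancel_right]]
    exact C.B.mul_mem huB (C.B.inv_mem (C.E_le he))
  have hπ : C.π u = C.π i := by
    rw [← hie, C.π_mul i hiB e (C.E_le he), (C.π_eq_zero e (C.E_le he)).2 he, add_zero]
  show (C.dEnd a ^ (3 + 1)) (C.π x) = 0
  rw [pow_succ' (C.dEnd a), AddMonoid.End.coe_mul, Function.comp_apply, ← C.π_iterC a 3 hxB, ← hu,
    hπ, ← C.π_comm a hiB,
    commutatorElement_eq_one_iff_commute.2 (hA a haA i hi.1), C.π_one]

/-- An abelian subgroup of largest order of `P` lies in `Q`. -/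
theorem le_of_maxAbelian [Finite G] [Fact p.Prime] (hp : 5 ≤ p) (C : Config p G V) {A : Subgroup G}
    (hA : A ≤ centralizer (A : Set G)) (hAP : A ≤ C.P)
    (hmax : ∀ M : Subgroup G, M ≤ C.P → M ≤ centralizer (M : Set G) → Nat.card M ≤ Nat.card A) :
    A ≤ C.Q := by
  classical
  have hpp : p.Prime := Fact.out
  by_contra hAQ₀
  obtain ⟨A, ⟨hAc, hAP, hcardA, hAQ⟩, hAmax⟩ := Set.exists_max_image
    {M : Subgroup G | M ≤ centralizer (M : Set G) ∧ M ≤ C.P ∧ Nat.card A ≤ Nat.card M ∧ ¬ M ≤ C.Q}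
    (fun M => Nat.card ↥(M ⊓ C.E)) (Set.toFinite _) ⟨A, hA, hAP, le_rfl, hAQ₀⟩
  replace hmax : ∀ M : Subgroup G, M ≤ C.P → M ≤ centralizer (M : Set G) →
      Nat.card M ≤ Nat.card A := fun M h1 h2 => (hmax M h1 h2).trans hcardA
  have hcomm : ∀ x ∈ A, ∀ y ∈ A, Commute x y := fun x hx y hy =>
    mem_centralizer_iff.1 (hAc hy) x hx
  by_cases hEN : C.E ≤ normalizer (A : Set G)
  · -- many new elements
    obtain ⟨U, hUB, hUU, hUI, -, -, hidx⟩ := C.exists_gain hp hcomm hAP
      (fun a ha e he => (quad_of_normalized hcomm ha (hEN he)).2) A inf_le_left le_rfl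
    set I := A ⊓ C.Q with hI
    have hIU : I ⊓ U ≤ C.fixedMod A := fun i hi => ⟨hUB hi.2, fun d hd => by
      rw [← C.π_comm d (hUB hi.2), commutatorElement_eq_one_iff_commute.2 (hcomm d hd i hi.1.1),
        C.π_one]⟩
    have hII : I ≤ centralizer (I : Set G) :=
      inf_le_left.trans (hAc.trans (centralizer_le (SetLike.coe_subset_coe.2 inf_le_left)))
    have hY : I ⊔ U ≤ centralizer ((I ⊔ U : Subgroup G) : Set G) :=
      sup_le (le_centralizer_iff.1 (sup_le hII hUI))
        (le_centralizer_iff.1 (sup_le (le_centralizer_iff.1 hUI) hUU))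
    have h1 := hmax _ (sup_le (inf_le_left.trans hAP) (hUB.trans (C.B_le.trans C.Q_le))) hY
    have h2 := Quadratic.card_mul_card_le I U
    have h3 : (C.fixedMod A).relIndex U * Nat.card ↥(I ⊓ U) ≤ Nat.card U := by
      have hle : (C.fixedMod A).relIndex U ≤ (I ⊓ U).relIndex U :=
        relIndex_le_of_le_left hIU (relIndex_ne_zero' _ _)
      refine (Nat.mul_le_mul_right _ hle).trans (le_of_eq ?_)
      rw [← relIndex_bot_left (I ⊓ U), ← relIndex_bot_left U, mul_comm,
        relIndex_mul_relIndex _ _ _ bot_le inf_le_right]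
    have h4 : Nat.card A = Nat.card I * I.relIndex A := by
      rw [← relIndex_bot_left A, ← relIndex_bot_left I,
        relIndex_mul_relIndex _ _ _ bot_le inf_le_left]
    have h5 : p * Nat.card A * Nat.card ↥(I ⊓ U) ≤ Nat.card A * Nat.card ↥(I ⊓ U) := by
      calc p * Nat.card A * Nat.card ↥(I ⊓ U)
          = Nat.card I * (p * I.relIndex A * Nat.card ↥(I ⊓ U)) := by rw [h4]; ring
        _ ≤ Nat.card I * Nat.card U :=
            Nat.mul_le_mul_left _ ((Nat.mul_le_mul_right _ (hidx hAQ)).trans h3)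
        _ ≤ _ := h2.trans (Nat.mul_le_mul_right _ h1)
    have h6 := Nat.le_of_mul_le_mul_right h5 Nat.card_pos
    have h7 : 0 < Nat.card A := Nat.card_pos
    nlinarith
  · -- replacement
    set P := C.P with hP
    haveI := C.normalE
    have hEP : C.E ≤ P := C.E_le.trans (C.B_le.trans C.Q_le)
    haveI : (C.E.subgroupOf P).Normal := C.normalE.subgroupOf P
    set A₁ := A.subgroupOf P with hA₁
    set E₁ := C.E.subgroupOf P with hE₁
    have hmap₁ : A₁.map P.subtype = A := map_subgroupOf_eq_of_le hAP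
    have hn : ¬ E₁ ≤ normalizer (A₁ : Set P) := by
      intro hle
      refine hEN fun e he => ?_
      have h' := le_normalizer_map P.subtype
        (mem_map_of_mem P.subtype (hle (show (⟨e, hEP he⟩ : P) ∈ E₁ from he)))
      rwa [hmap₁] at h'
    obtain ⟨b, hbE, hbN, hbA⟩ := ZJ.exists_moving C.isPGroupP E₁ A₁ hn
    have hc₁ : ∀ x ∈ A₁, ∀ y ∈ A₁, Commute x y := fun x hx y hy => Subtype.ext (hcomm _ hx _ hy).eq
    have hEc : ∀ x ∈ E₁, ∀ y ∈ E₁, Commute x y := fun x hx y hy =>
      Subtype.ext (C.commute_E hx hy).eq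
    have hE0 : ⁅E₁, E₁⁆ ≤ A₁ := by
      rw [commutator_le]
      intro x hx y hy
      rw [commutatorElement_eq_one_iff_commute.2 (hEc x hx y hy)]
      exact one_mem _
    obtain ⟨hcard, hRc, -, hlt, -, hAN, hRN, -, -, -, -⟩ :=
      ZJ.replacement E₁ A₁ hc₁ hE0 (Or.inr hEc) hbE hbN hbA
    set R := ZJ.replaced A₁ b with hR
    set A' := R.map P.subtype with hA'
    have hA'P : A' ≤ P := map_subtype_le R
    have hcard' : Nat.card A' = Nat.card A := by
      rw [hA', card_map_of_injective P.subtype_injective, hcard,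
        ← card_map_of_injective P.subtype_injective, hmap₁]
    have hA'c : ∀ x ∈ A', ∀ y ∈ A', Commute x y := by
      rintro _ ⟨x, hx, rfl⟩ _ ⟨y, hy, rfl⟩
      exact (hRc x hx y hy).map P.subtype
    have hA'N : A' ≤ normalizer (A : Set G) := by
      rw [← hmap₁]
      exact (map_mono hRN).trans (le_normalizer_map _)
    have hAN' : A ≤ normalizer (A' : Set G) := by
      conv_lhs => rw [← hmap₁]
      exact (map_mono hAN).trans (le_normalizer_map _)
    by_cases hA'Q : A' ≤ C.Q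
    · refine C.false_of_member hp hcomm hAP hAQ hmax hA'c hA'Q hcard'.ge hA'N hAN' ?_
      have hsub : R ≤ (A₁ ⊓ R) ⊔ E₁ := by
        refine sup_le ?_ ?_
        · exact le_sup_of_le_left (le_inf inf_le_left le_sup_left)
        · rw [closure_le]
          rintro _ ⟨y, -, rfl⟩
          refine mem_sup_right (mul_mem ?_ hbE)
          exact (inferInstance : E₁.Normal).conj_mem _ (inv_mem hbE) y
      refine (map_mono hsub).trans ?_
      rw [Subgroup.map_sup, Subgroup.map_inf _ _ _ P.subtype_injective, hmap₁,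
        map_subgroupOf_eq_of_le hEP]
    · refine absurd (hAmax A' ⟨fun y hy => mem_centralizer_iff.2 fun x hx => (hA'c x hx y hy).eq,
        hA'P, hcard' ▸ hcardA, hA'Q⟩) (not_le_of_gt ?_)
      have hlt' : A ⊓ C.E < A' ⊓ C.E := by
        rw [← hmap₁, ← map_subgroupOf_eq_of_le hEP, hA', ← Subgroup.map_inf _ _ _ P.subtype_injective,
          ← Subgroup.map_inf _ _ _ P.subtype_injective]
        exact map_lt_map_iff_of_injective P.subtype_injective |>.2 hlt
      exact Set.ncard_lt_ncard hlt' (Set.toFinite _)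

end Config

end Cfsg.Agent.Lib.OffenderJ
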