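import Mathlib

/-!
# Commutator pairings twisted by an element acting quadratically on the values

For a group `B` normalised by `a`, with commutators `⁅q, v⁆` (`q ∈ B`, `v ∈ X`) in an abelian `E`
which commutes with `B`, the pairing of an iterated commutator `[a, …, a, q]` with `v` is computed
from the pairing of `q` with the iterated commutators of `v`.
-/

set_option autoImplicit false

namespace Cfsg.Agent.Lib.OffenderJ

open scoped commutatorElement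

variable {G : Type*} [Group G]

/-- The iterated commutator `[a, …, a, q]`. -/
def iterC (a : G) (m : ℕ) (q : G) : G := (fun x => ⁅a, x⁆)^[m] q

@[simp] theorem iterC_zero (a q : G) : iterC a 0 q = q := rfl

theorem iterC_succ (a : G) (m : ℕ) (q : G) : iterC a (m + 1) q = ⁅a, iterC a m q⁆ := by
  simp only [iterC, Function.iterate_succ_apply']

theorem iterC_succ' (a : G) (m : ℕ) (q : G) : iterC a (m + 1) q = iterC a m ⁅a, q⁆ := by
  simp only [iterC, Function.iterate_succ_apply]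

/-- The data of the pairing. -/
structure Pairing (B X E : Subgroup G) (a : G) : Prop where
  conj_B : ∀ q ∈ B, a * q * a⁻¹ ∈ B
  conj_X : ∀ v ∈ X, ⁅a⁻¹, v⁆ ∈ X
  conj_E : ∀ e ∈ E, ⁅a, e⁆ ∈ E
  comm_E : ∀ e ∈ E, ∀ e' ∈ E, Commute e e'
  comm_B : ∀ q ∈ B, ∀ e ∈ E, Commute q e
  values : ∀ q ∈ B, ∀ v ∈ X, ⁅q, v⁆ ∈ E
  comm_X : ∀ v ∈ X, ∀ e ∈ E, Commute ⁅a⁻¹, v⁆ e
  quad : ∀ e ∈ E, ⁅a, ⁅a, e⁆⁆ = 1

namespace Pairing

variable {B X E : Subgroup G} {a : G}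

theorem comm_mem (h : Pairing B X E a) {q : G} (hq : q ∈ B) : ⁅a, q⁆ ∈ B := by
  rw [commutatorElement_def]
  exact B.mul_mem (h.conj_B q hq) (B.inv_mem hq)

theorem iterC_mem (h : Pairing B X E a) (m : ℕ) {q : G} (hq : q ∈ B) : iterC a m q ∈ B := by
  induction m with
  | zero => exact hq
  | succ m ih => rw [iterC_succ]; exact h.comm_mem ih

theorem iterC_inv_mem (h : Pairing B X E a) (m : ℕ) {v : G} (hv : v ∈ X) :
    iterC a⁻¹ m v ∈ X := by
  induction m with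
  | zero => exact hv
  | succ m ih => rw [iterC_succ]; exact h.conj_X _ ih

theorem conj_E_mem (h : Pairing B X E a) {e : G} (he : e ∈ E) : a * e * a⁻¹ ∈ E := by
  have : a * e * a⁻¹ = ⁅a, e⁆ * e := by rw [commutatorElement_def]; group
  rw [this]
  exact E.mul_mem (h.conj_E e he) he

theorem mul_comm_map (h : Pairing B X E a) {e e' : G} (he : e ∈ E) (he' : e' ∈ E) :
    ⁅a, e * e'⁆ = ⁅a, e⁆ * ⁅a, e'⁆ := by
  have h1 : Commute e ⁅a, e'⁆ := h.comm_E e he _ (h.conj_E e' he')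
  calc ⁅a, e * e'⁆ = ⁅a, e⁆ * (e * ⁅a, e'⁆ * e⁻¹) := by
        simp only [commutatorElement_def]; group
    _ = ⁅a, e⁆ * ⁅a, e'⁆ := by rw [h1.eq, mul_inv_cancel_right]

theorem comm_conj (h : Pairing B X E a) {e : G} (he : e ∈ E) : ⁅a, a * e * a⁻¹⁆ = ⁅a, e⁆ := by
  rw [show a * e * a⁻¹ = ⁅a, e⁆ * e by rw [commutatorElement_def]; group,
    h.mul_comm_map (h.conj_E e he) he, h.quad e he, one_mul]

/-- One step of the recursion. -/
theorem step (h : Pairing B X E a) {q v : G} (hq : q ∈ B) (hv : v ∈ X) :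
    ⁅⁅a, q⁆, v⁆ = a * ⁅q, ⁅a⁻¹, v⁆⁆ * a⁻¹ * ⁅a, ⁅q, v⁆⁆ := by
  set w := ⁅a⁻¹, v⁆ with hw
  set c := ⁅q, v⁆ with hc
  set c' := ⁅q, w⁆ with hc'
  have hcE : c ∈ E := h.values q hq v hv
  have hc'E : c' ∈ E := h.values q hq w (h.conj_X v hv)
  -- the pairing with `a q a⁻¹`
  have h1 : ⁅a * q * a⁻¹, v⁆ = a * c' * a⁻¹ * (a * c * a⁻¹) := by
    have e1 : ⁅a * q * a⁻¹, v⁆ = a * ⁅q, w * v⁆ * a⁻¹ := by
      rw [hw]; simp only [commutatorElement_def]; group
    have e2 : ⁅q, w * v⁆ = c' * c := by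
      calc ⁅q, w * v⁆ = c' * (w * c * w⁻¹) := by
            rw [hc', hc]; simp only [commutatorElement_def]; group
        _ = c' * c := by rw [(h.comm_X v hv c hcE).eq, mul_inv_cancel_right]
    rw [e1, e2]; group
  have h2 : ⁅q⁻¹, v⁆ = c⁻¹ := by
    have : ⁅q⁻¹, v⁆ = q⁻¹ * c⁻¹ * q := by
      rw [hc]; simp only [commutatorElement_def]; group
    rw [this, ((h.comm_B q hq c hcE).inv_left.inv_right).eq, inv_mul_cancel_right]
  have h3 : ⁅⁅a, q⁆, v⁆ = c⁻¹ * ⁅a * q * a⁻¹, v⁆ := by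
    have hx : a * q * a⁻¹ ∈ B := h.conj_B q hq
    have : ⁅⁅a, q⁆, v⁆ = a * q * a⁻¹ * ⁅q⁻¹, v⁆ * (a * q * a⁻¹)⁻¹ * ⁅a * q * a⁻¹, v⁆ := by
      simp only [commutatorElement_def]; group
    rw [this, h2, (h.comm_B _ hx c⁻¹ (E.inv_mem hcE)).eq, mul_inv_cancel_right]
  rw [h3, h1]
  calc c⁻¹ * (a * c' * a⁻¹ * (a * c * a⁻¹))
      = (a * c' * a⁻¹) * c⁻¹ * (a * c * a⁻¹) := by
        rw [← mul_assoc, (h.comm_E c⁻¹ (E.inv_mem hcE) _ (h.conj_E_mem hc'E)).eq]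
    _ = (a * c' * a⁻¹) * ((a * c * a⁻¹) * c⁻¹) := by
        rw [mul_assoc, (h.comm_E c⁻¹ (E.inv_mem hcE) _ (h.conj_E_mem hcE)).eq]
    _ = a * c' * a⁻¹ * ⁅a, c⁆ := by rw [commutatorElement_def]

/-- Modulo the fixed points the iterated commutator moves to the other side. -/
theorem comm_values (h : Pairing B X E a) (m : ℕ) {q v : G} (hq : q ∈ B) (hv : v ∈ X) :
    ⁅a, ⁅iterC a m q, v⁆⁆ = ⁅a, ⁅q, iterC a⁻¹ m v⁆⁆ := by
  induction m generalizing v with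
  | zero => rfl
  | succ m ih =>
    have hm := h.iterC_mem m hq
    have h1 := h.values _ hm _ (h.conj_X v hv)
    have h2 := h.values _ hm v hv
    rw [iterC_succ a, h.step hm hv, h.mul_comm_map (h.conj_E_mem h1) (h.conj_E _ h2), h.comm_conj h1,
      h.quad _ h2, mul_one, ih (h.conj_X v hv), iterC_succ']

/-- The vanishing criterion. -/
theorem vanish (h : Pairing B X E a) (m : ℕ) {q v : G} (hq : q ∈ B) (hv : v ∈ X)
    (h0 : ∀ q' ∈ B, ⁅q', iterC a⁻¹ (m + 1) v⁆ = 1) (h1 : ⁅a, ⁅q, iterC a⁻¹ m v⁆⁆ = 1) :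
    ⁅iterC a (m + 1) q, v⁆ = 1 := by
  induction m generalizing v with
  | zero =>
    rw [iterC_succ, iterC_zero, h.step hq hv]
    rw [iterC_succ, iterC_zero] at h0
    rw [iterC_zero] at h1
    rw [h0 q hq, h1, mul_one, mul_one, mul_inv_cancel]
  | succ m ih =>
    have hm := h.iterC_mem (m + 1) hq
    rw [iterC_succ a, h.step hm hv, h.comm_values (m + 1) hq hv, h1, mul_one,
      ih (h.conj_X v hv) (fun q' hq' => by rw [← iterC_succ']; exact h0 q' hq')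
        (by rw [← iterC_succ']; exact h1), mul_one, mul_inv_cancel]

/-- A version of `vanish` for a `v` whose iterated commutator already pairs trivially. -/
theorem vanish_of_lt (h : Pairing B X E a) (m : ℕ) {q v : G} (hq : q ∈ B) (hv : v ∈ X)
    (h0 : ∀ q' ∈ B, ⁅q', iterC a⁻¹ m v⁆ = 1) (h0' : ∀ q' ∈ B, ⁅q', iterC a⁻¹ (m + 1) v⁆ = 1) :
    ⁅iterC a (m + 1) q, v⁆ = 1 :=
  h.vanish m hq hv h0' (by rw [h0 q hq, commutatorElement_one_right])

end Pairing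

end Cfsg.Agent.Lib.OffenderJ
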